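import Mathlib
import Cfsg.Agent.Golay.Octads

/-!
Orbits of stabilisers of flags (points, octads, dodecads, duads, triads).
-/

namespace Cfsg.Agent.Golay

open MulAction Finset
open scoped Pointwise

theorem mem_iff_get {s : Finset GolayPt} {k : ℕ} (hk : k < 24) :
    pt k ∈ s ↔ Nat.xor (get 1 (mk s) k) 1 = 0 := by
  rw [mem_iff_mk, enc_pt hk, xor_eq_zero_iff']

theorem not_mem_iff_get {s : Finset GolayPt} {k : ℕ} (hk : k < 24) :
    pt k ∉ s ↔ get 1 (mk s) k = 0 := by
  rw [not_mem_iff_mk, enc_pt hk]

theorem smul_mem_smul' {g : P24} {s : Finset GolayPt} {p : GolayPt} (h : p ∈ s) :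
    g • p ∈ g • s := smul_mem_smul_finset h

theorem smul_not_mem_smul' {g : P24} {s : Finset GolayPt} {p : GolayPt} (h : p ∉ s) :
    g • p ∉ g • s := by rwa [smul_mem_smul_finset_iff]

theorem classif_oct_pt2 {o : Finset GolayPt} (ho : o ∈ octads) {p q : GolayPt} (hp : p ∈ o)
    (hq : q ∈ o) (h : p ≠ q) : Classif M24 ((o, p), q) {x | x ∈ octads ∧ p ∈ x ∧ q ∈ x}
      (fun x => (o ∩ x).card) [(4, 60), (2, 16), (8, 1)] :=
  classif_mk (fun z : (Finset GolayPt × GolayPt) × GolayPt => {x | x ∈ octads ∧ z.1.2 ∈ x ∧ z.2 ∈ x})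
    (fun z x => (z.1.1 ∩ x).card)
    (fun _ hg _ _ h => ⟨smul_mem_octads hg h.1, smul_mem_smul' h.2.1, smul_mem_smul' h.2.2⟩)
    (fun g _ _ _ => card_smul_inter g _ _) (x := ((oct0, pt 23), pt 0))
    (cs := [963479765153508335046075664250800576, 961073640433814575657617933023118784])
    ((((fixTest_mk mk_oct0).prod (fixTest_pt (by norm_num))).prod (fixTest_pt (by norm_num))).in_St
      (by decide +kernel)) [(8391797, 4, 60), (8499969, 2, 16), (8536111, 8, 1)] 100
    (by decide +kernel) (by decide +kernel) (by decide)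
    ((enum_octads.ncard_eq _ (fun c => Nat.add (Nat.xor (get 1 c 23) 1) (Nat.xor (get 1 c 0) 1))
      (fun x _ => by rw [add_eq_zero_iff', mem_iff_get (by norm_num), mem_iff_get (by norm_num)])).trans
      (by decide +kernel))
    (oct_pt2_trans oct0_mem ho (by decide +kernel) (by decide +kernel) hp hq (by decide) h)

theorem classif_oct_in_out {o : Finset GolayPt} (ho : o ∈ octads) {p q : GolayPt} (hp : p ∈ o)
    (hq : q ∉ o) : Classif M24 ((o, p), q) {x | x ∈ octads ∧ p ∈ x ∧ q ∉ x}
      (fun x => (o ∩ x).card) [(4, 105), (2, 70), (8, 1)] :=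
  classif_mk (fun z : (Finset GolayPt × GolayPt) × GolayPt => {x | x ∈ octads ∧ z.1.2 ∈ x ∧ z.2 ∉ x})
    (fun z x => (z.1.1 ∩ x).card)
    (fun _ hg _ _ h => ⟨smul_mem_octads hg h.1, smul_mem_smul' h.2.1, smul_not_mem_smul' h.2.2⟩)
    (fun g _ _ _ => card_smul_inter g _ _) (x := ((oct0, pt 23), pt 4))
    (cs := [966277471611377052061013036535152801, 966383583762242959711397317930584160])
    ((((fixTest_mk mk_oct0).prod (fixTest_pt (by norm_num))).prod (fixTest_pt (by norm_num))).in_St
      (by decide +kernel)) [(8394986, 4, 105), (8490656, 2, 70), (8536111, 8, 1)] 200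
    (by decide +kernel) (by decide +kernel) (by decide)
    ((enum_octads.ncard_eq _ (fun c => Nat.add (Nat.xor (get 1 c 23) 1) (get 1 c 4))
      (fun x _ => by
        rw [add_eq_zero_iff', mem_iff_get (by norm_num), not_mem_iff_get (by norm_num)])).trans
      (by decide +kernel))
    (oct_in_out_trans oct0_mem ho (by decide +kernel) (by decide +kernel) hp hq)

theorem classif_oct_pt {o : Finset GolayPt} (ho : o ∈ octads) {p : GolayPt} (hp : p ∈ o) :
    Classif M24 (o, p) {x | x ∈ octads ∧ p ∈ x}
      (fun x => (o ∩ x).card) [(4, 140), (2, 112), (8, 1)] :=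
  classif_mk (fun z : Finset GolayPt × GolayPt => {x | x ∈ octads ∧ z.2 ∈ x})
    (fun z x => (z.1 ∩ x).card)
    (fun _ hg _ _ h => ⟨smul_mem_octads hg h.1, smul_mem_smul' h.2⟩)
    (fun g _ _ _ => card_smul_inter g _ _) (x := (oct0, pt 23))
    (cs := [971797972360035954739354868802688097, 975729214498080299551835418017600546])
    (((fixTest_mk mk_oct0).prod (fixTest_pt (by norm_num))).in_St
      (by decide +kernel)) [(8391797, 4, 140), (8401364, 2, 112), (8536111, 8, 1)] 200
    (by decide +kernel) (by decide +kernel) (by decide)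
    ((enum_octads.ncard_eq _ (fun c => Nat.xor (get 1 c 23) 1)
      (fun x _ => by rw [mem_iff_get (by norm_num)])).trans (by decide +kernel))
    (oct_pt_trans oct0_mem ho (by decide +kernel) hp)

theorem classif_oct_out {o : Finset GolayPt} (ho : o ∈ octads) {p : GolayPt} (hp : p ∉ o) :
    Classif M24 (o, p) {x | x ∈ octads ∧ p ∉ x}
      (fun x => (o ∩ x).card) [(2, 280), (4, 210), (0, 15), (8, 1)] :=
  classif_mk (fun z : Finset GolayPt × GolayPt => {x | x ∈ octads ∧ z.2 ∉ x})
    (fun z x => (z.1 ∩ x).card)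
    (fun _ hg _ _ h => ⟨smul_mem_octads hg h.1, smul_not_mem_smul' h.2⟩)
    (fun g _ _ _ => card_smul_inter g _ _) in_gensA8
    [(15777, 2, 280), (18147, 4, 210), (337856, 0, 15), (8536111, 8, 1)] 300
    (by decide +kernel) (by decide +kernel) (by decide)
    ((enum_octads.ncard_eq _ (fun c => get 1 c 4)
      (fun x _ => by rw [not_mem_iff_get (by norm_num)])).trans (by decide +kernel))
    (oct_out_trans oct0_mem ho pt4_not_mem hp)

theorem in_gensM11_St : In pc (St M24 (um 340831, pt 0)) gensM11 := by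
  rw [← squareDodecad_eq, pt_zero, ← M11_eq]; exact in_gensM11

theorem classif_dod_pt {d : Finset GolayPt} (hd : d ∈ dodecads) {p : GolayPt} (hp : p ∈ d) :
    Classif M24 (d, p) {x | x ∈ dodecads ∧ p ∈ x}
      (fun x => (d ∩ x).card) [(8, 330), (6, 792), (12, 1), (4, 165)] :=
  classif_mk (fun z : Finset GolayPt × GolayPt => {x | x ∈ dodecads ∧ z.2 ∈ x})
    (fun z x => (z.1 ∩ x).card)
    (fun _ hg _ _ h => ⟨smul_mem_dodecads hg h.1, smul_mem_smul' h.2⟩)
    (fun g _ _ _ => card_smul_inter g _ _) in_gensM11_St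
    [(28637, 8, 330), (195645, 6, 792), (340831, 12, 1), (1727659, 4, 165)] 800
    (by decide +kernel) (by decide +kernel) (by decide)
    ((enum_dodecads.ncard_eq _ (fun c => Nat.xor (get 1 c 0) 1)
      (fun x _ => by rw [mem_iff_get (by norm_num)])).trans (by decide +kernel))
    (dod_pt_trans dod0_mem hd (by decide +kernel) hp)

theorem ncard_card_eq (k : ℕ) : {s : Finset GolayPt | s.card = k}.ncard = Nat.choose 24 k := by
  rw [← card_golayPt, ← card_univ, ← card_powersetCard, ← Set.ncard_coe_finset]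
  congr 1
  ext s; simp

theorem ncard_card_subset (D : Finset GolayPt) (k : ℕ) :
    {s : Finset GolayPt | s.card = k ∧ s ⊆ D}.ncard = Nat.choose D.card k := by
  rw [← card_powersetCard, ← Set.ncard_coe_finset]
  congr 1
  ext s; simp [and_comm]

/-- invariant of a pair of sets: size of the intersection, and whether the union is in an octad -/
noncomputable def pairInv (s t : Finset GolayPt) : ℕ :=
  (s ∩ t).card + if InOct (s ∪ t) then 10 else 0

theorem pairInv_smul {g : P24} (hg : g ∈ M24) (s t : Finset GolayPt) :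
    pairInv (g • s) (g • t) = pairInv s t := by
  unfold pairInv
  simp only [card_smul_inter, ← smul_finset_union, inOct_smul hg]

theorem classif_triad {T : Finset GolayPt} (hT : T.card = 3) :
    Classif M24 T {U | U.card = 3} (pairInv T) [(13, 1), (12, 63), (11, 630), (0, 1120), (10, 210)] :=
  classif_mk (fun _ : Finset GolayPt => {U | U.card = 3}) pairInv
    (fun g _ _ y h => (card_smul_finset g y).trans h) (fun _ hg => pairInv_smul hg) (x := um 7)
    (cs := [295251642693322282736681272637818881, 391149605037952623679621948940747840])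
    ((fixTest_um (by norm_num)).in_St (by decide +kernel))
    [(7, 13, 1), (11, 12, 63), (25, 11, 630), (56, 0, 1120), (152, 10, 210)] 1200
    (by decide +kernel) (by decide +kernel) (by decide) (ncard_card_eq 3)
    (trans_set (by rw [hT]; decide +kernel) (by decide +kernel))

theorem classif_duad {T : Finset GolayPt} (hT : T.card = 2) :
    Classif M24 T {U | U.card = 2} (fun U => (T ∩ U).card) [(2, 1), (1, 44), (0, 231)] :=
  classif_mk (fun _ : Finset GolayPt => {U | U.card = 2}) (fun T U => (T ∩ U).card)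
    (fun g _ _ y h => (card_smul_finset g y).trans h) (fun g _ => card_smul_inter g) (x := um 3)
    (cs := [963831930699708561007741181838726145, 591240373657479446883029431462072321])
    ((fixTest_um (by norm_num)).in_St (by decide +kernel))
    [(3, 2, 1), (5, 1, 44), (12, 0, 231)] 300
    (by decide +kernel) (by decide +kernel) (by decide) (ncard_card_eq 2)
    (trans_set (by rw [hT]; decide +kernel) (by decide +kernel))

theorem inj4 {α : Type*} {p q r s : α} (h1 : p ≠ q) (h2 : p ≠ r) (h3 : p ≠ s) (h4 : q ≠ r)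
    (h5 : q ≠ s) (h6 : r ≠ s) : Function.Injective ![p, q, r, s] := by
  intro i j
  fin_cases i <;> fin_cases j <;>
    simp [h1, h1.symm, h2, h2.symm, h3, h3.symm, h4, h4.symm, h5, h5.symm, h6, h6.symm]

theorem classif_pt2_duad {p q : GolayPt} (hpq : p ≠ q) {s : Finset GolayPt} (hs : s.card = 2)
    (hp : p ∉ s) (hq : q ∉ s) :
    Classif M24 ((p, q), s) {t | t.card = 2 ∧ p ∉ t ∧ q ∉ t}
      (fun t => pairInv ({p, q} ∪ s) t) [(12, 1), (11, 40), (0, 160), (10, 30)] :=
  classif_mk (fun z : (GolayPt × GolayPt) × Finset GolayPt => {t | t.card = 2 ∧ z.1.1 ∉ t ∧ z.1.2 ∉ t})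
    (fun z t => pairInv ({z.1.1, z.1.2} ∪ z.2) t)
    (fun g _ _ y h => ⟨(card_smul_finset g y).trans h.1, smul_not_mem_smul' h.2.1,
      smul_not_mem_smul' h.2.2⟩)
    (fun g hg x y => by
      rw [← pairInv_smul hg ({x.1.1, x.1.2} ∪ x.2), smul_finset_union, smul_finset_insert,
        smul_finset_singleton]; rfl)
    (x := ((pt 23, pt 0), um 6))
    (cs := [962492027070481906117204133817091136, 968706071231490545334335149566003232])
    ((((fixTest_pt (by norm_num)).prod (fixTest_pt (by norm_num))).prod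
      (fixTest_um (by norm_num))).in_St (by decide +kernel))
    [(6, 12, 1), (10, 11, 40), (24, 0, 160), (40, 10, 30)] 300
    (by decide +kernel) (by decide +kernel) (by decide)
    (by
      have := ncard_card_subset {pt 23, pt 0}ᶜ 2
      simp only [subset_compl_iff_disjoint_right, disjoint_insert_right,
        disjoint_singleton_right] at this
      exact this.trans (by decide +kernel))
    (by
      obtain ⟨a, b, hab, rfl⟩ := card_eq_two.1 hs
      simp only [mem_insert, mem_singleton, not_or] at hp hq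
      obtain ⟨g, hg, e⟩ := exists_list_map (k := 4) (by norm_num) ![pt 23, pt 0, pt 1, pt 2]
        ![p, q, a, b] (by decide) (inj4 hpq hp.1 hp.2 hq.1 hq.2 hab)
      refine ⟨g, hg, Prod.ext (Prod.ext (e 0) (e 1)) ?_⟩
      show g • um 6 = {a, b}
      rw [show um 6 = {pt 1, pt 2} by decide +kernel, smul_finset_insert, smul_finset_singleton]
      exact congrArg₂ (fun a b => ({a, b} : Finset GolayPt)) (e 2) (e 3))

end Cfsg.Agent.Golay
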