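import Mathlib
import Cfsg.Agent.Golay.Classes

/-!
Conjugacy class data of subgroups of `M₂₄`, and the classes of `M₁₁`.
-/

set_option autoImplicit false

namespace Cfsg.Agent.Golay

open MulAction

/-- class representatives with their orders and class sizes -/
structure ClassData (H : Subgroup P24) (R : List (P24 × ℕ × ℕ)) : Prop where
  mem : ∀ r ∈ R, r.1 ∈ H
  ord : ∀ r ∈ R, orderOf r.1 = r.2.1
  size : ∀ r ∈ R, (orbit H (cj r.1)).ncard = r.2.2
  cover : ∀ x ∈ H, ∃ r ∈ R, cj x ∈ orbit H (cj r.1)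
  pair : R.Pairwise fun a b => cj b.1 ∉ orbit H (cj a.1)

theorem orderOf_of_mem_orbit {H : Subgroup P24} {x y : P24} (h : cj x ∈ orbit H (cj y)) :
    orderOf x = orderOf y := by
  obtain ⟨g, -, e⟩ := mem_orbit_iff'.1 h
  rw [smul_cj, cj_inj] at e
  rw [← e]
  exact (MulAut.conj g).orderOf_eq y

theorem classData {H : Subgroup P24} {cs : List ℕ} (hgen : Gen pc H cs) (R : List (ℕ × ℕ × ℕ)) (fuel : ℕ)
    (hin : In pc H (R.map Prod.fst))
    (ho : ∀ r ∈ R, 0 < r.2.1 ∧ pw r.1 r.2.1 = one ∧ ∀ m < r.2.1, 0 < m → pw r.1 m ≠ one)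
    (hb : ∀ r ∈ R, bfs cjc (mapL (fun c => c) cs) r.1 fuel (fun L _ => lenL L) = r.2.2)
    (hp : R.Pairwise fun a b => a.2.1 = b.2.1 → bfs cjc (mapL (fun c => c) cs) a.1 fuel
      (fun L _ => Nat.succ (sumL (fun c => isZ (Nat.xor c b.1)) L)) = 1)
    (hsum : Nat.card H = (R.map fun r => r.2.2).sum) :
    ClassData H (R.map fun r => (tp r.1, r.2)) := by
  have h0 : ∀ r ∈ R, tp r.1 ∈ H ∧ pc (tp r.1) = r.1 := fun r hr => by
    obtain ⟨g, hg, e⟩ := hin _ (List.mem_map_of_mem hr)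
    rw [← e, tp_pc]
    exact ⟨hg, rfl⟩
  have h1 : ∀ r ∈ R, orderOf (tp r.1) = r.2.1 := fun r hr => by
    obtain ⟨a, b, c⟩ := ho r hr
    rw [← (h0 r hr).2, pw_pc, ← pc_one, pc_inj] at b
    refine (orderOf_eq_iff a).2 ⟨b, fun m hm hm' e => c m hm hm' ?_⟩
    rw [← (h0 r hr).2, pw_pc, e, pc_one]
  have h2 : (R.map fun r => (cj (tp r.1), r.2.2)).Pairwise fun a b => b.1 ∉ orbit H a.1 := by
    rw [List.pairwise_map]
    refine hp.imp_of_mem fun {a b} ha hb hab h => ?_
    replace h : cj (tp b.1) ∈ orbit H (cj (tp a.1)) := h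
    obtain ⟨g, hg, e⟩ := mem_orbit_iff'.1 h
    have := (isCAct_cj H).forall_orbit (x0 := cj (tp a.1)) le_rfl hgen trivial (h0 a ha).2 fuel _
      (hab (by rw [← h1 a ha, ← h1 b hb, orderOf_of_mem_orbit h])) g hg
    rw [e, val_cj, (h0 b hb).2, isZ_eq_zero_iff] at this
    exact this (xor_eq_zero_iff'.2 rfl)
  have hf : Finite Cj := inferInstanceAs (Finite P24)
  obtain ⟨h3, h4⟩ := orbits_cover (H := H) (S := {y : Cj | y.val ∈ H}) (Set.toFinite _)
    (fun g hg y hy => H.mul_mem (H.mul_mem hg hy) (H.inv_mem hg)) (R.map fun r => (cj (tp r.1), r.2.2))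
    (by
      intro l hl
      obtain ⟨r, hr, rfl⟩ := List.mem_map.1 hl
      exact ⟨(h0 r hr).1, (isCAct_cj H).le_ncard_orbit (x0 := cj (tp r.1)) le_rfl hgen.1 trivial (h0 r hr).2 fuel (hb r hr)
        (Set.toFinite _)⟩)
    h2 (by rw [List.map_map]; exact hsum.le)
  refine ⟨?_, ?_, ?_, fun x hx => ?_, ?_⟩
  · intro l hl
    obtain ⟨r, hr, rfl⟩ := List.mem_map.1 hl
    exact (h0 r hr).1
  · intro l hl
    obtain ⟨r, hr, rfl⟩ := List.mem_map.1 hl
    exact h1 r hr
  · intro l hl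
    obtain ⟨r, hr, rfl⟩ := List.mem_map.1 hl
    exact h4 (cj (tp r.1), r.2.2) (List.mem_map_of_mem (f := fun r : ℕ × ℕ × ℕ => (cj (tp r.1), r.2.2)) hr)
  · obtain ⟨l, hl, h⟩ := h3 (cj x) hx
    obtain ⟨r, hr, rfl⟩ := List.mem_map.1 hl
    exact ⟨(tp r.1, r.2), List.mem_map_of_mem (f := fun r : ℕ × ℕ × ℕ => (tp r.1, r.2)) hr, h⟩
  · rw [List.pairwise_map] at h2 ⊢
    exact h2

variable {H : Subgroup P24} {R : List (P24 × ℕ × ℕ)}

theorem isConj_iff_orbit {x y : H} : IsConj x y ↔ cj y ∈ orbit H (cj x) := by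
  rw [isConj_iff, mem_orbit_iff']
  exact ⟨fun ⟨g, e⟩ => ⟨g, g.2, congrArg Subtype.val e⟩, fun ⟨g, hg, e⟩ => ⟨⟨g, hg⟩, Subtype.ext e⟩⟩

theorem ClassData.card_conjClasses (h : ClassData H R) : Nat.card (ConjClasses H) = R.length := by
  rw [← Nat.card_fin R.length]
  refine (Nat.card_eq_of_bijective (fun i => ConjClasses.mk ⟨R[i].1, h.mem _ (List.getElem_mem i.2)⟩)
    ⟨fun i j e => ?_, fun c => ?_⟩).symm
  · rw [ConjClasses.mk_eq_mk_iff_isConj] at e
    by_contra hne
    rcases lt_or_gt_of_ne hne with hl | hl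
    · exact List.pairwise_iff_getElem.1 h.pair i j i.2 j.2 hl (isConj_iff_orbit.1 e)
    · exact List.pairwise_iff_getElem.1 h.pair j i j.2 i.2 hl (isConj_iff_orbit.1 e.symm)
  · obtain ⟨x, rfl⟩ := ConjClasses.mk_surjective c
    obtain ⟨r, hr, e⟩ := h.cover x x.2
    obtain ⟨i, hi, rfl⟩ := List.getElem_of_mem hr
    exact ⟨⟨i, hi⟩, ConjClasses.mk_eq_mk_iff_isConj.2 (isConj_iff_orbit.2 e)⟩

theorem ClassData.card_orderOf (h : ClassData H R) (n : ℕ) :
    Nat.card {g : H // orderOf g = n} = ((R.filter fun r => r.2.1 = n).map fun r => r.2.2).sum := by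
  classical
  have hf : Finite Cj := inferInstanceAs (Finite P24)
  have h1 := ncard_inter_orbits (H := H) (B := {y : Cj | y.val ∈ H ∧ orderOf y.val = n}) (Set.toFinite _)
    (fun g hg y hy => ⟨H.mul_mem (H.mul_mem hg hy.1) (H.inv_mem hg),
      ((MulAut.conj g).orderOf_eq y.val).trans hy.2⟩) (R.map fun r => cj r.1) (List.pairwise_map.2 h.pair)
  rw [List.filter_map, List.map_map] at h1
  have h2 : (R.filter fun r => r.2.1 = n) = R.filter ((fun x => decide
      (x ∈ {y : Cj | y.val ∈ H ∧ orderOf y.val = n})) ∘ fun r => cj r.1) :=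
    List.filter_congr fun r hr => by simp [val_cj, h.mem r hr, h.ord r hr]
  rw [← h2] at h1
  rw [List.map_congr_left fun r hr => (h.size r (List.mem_of_mem_filter hr)).symm]
  refine Eq.trans ?_ h1
  rw [← Nat.card_coe_set_eq]
  refine Nat.card_congr ⟨fun g => ⟨cj g.1, ⟨g.1.2, by rw [val_cj, Subgroup.orderOf_coe, g.2]⟩, ?_⟩,
    fun y => ⟨⟨y.1.val, y.2.1.1⟩, by rw [← Subgroup.orderOf_coe]; exact y.2.1.2⟩, fun _ => rfl, fun _ => rfl⟩
  obtain ⟨r, hr, e⟩ := h.cover g.1 g.1.2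
  exact ⟨_, List.mem_map_of_mem hr, e⟩

theorem ClassData.card_cent (h : ClassData H R) (x : H) :
    ∃ r ∈ R, orderOf x = r.2.1 ∧ Nat.card (Subgroup.centralizer ({x} : Set H)) * r.2.2 = Nat.card H := by
  obtain ⟨r, hr, e⟩ := h.cover x x.2
  refine ⟨r, hr, by rw [← h.ord r hr, ← orderOf_of_mem_orbit e, Subgroup.orderOf_coe], ?_⟩
  rw [← h.size r hr, ← orbit_eq_iff.2 e, ← index_stabilizer, ← (stabilizer H (cj x)).card_mul_index]
  congr 3
  ext g
  rw [Subgroup.mem_centralizer_singleton_iff, mem_stabilizer_iff, Subgroup.smul_def, smul_cj_eq, Subtype.ext_iff]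
  rfl

/-- the classes of `M₁₁` -/
def cls11 : List (ℕ × ℕ × ℕ) :=
  [(one, 1, 1), (221546328109491013656963159965188384, 2, 165),
    (221468986453060343554499803718133248, 3, 440), (217203894423776824766483921722837248, 4, 990),
    (217213952585048168212304204633902336, 5, 1584), (217210074029560704506518236521860288, 6, 1320),
    (217206386515961030566803478121286208, 8, 990), (217211272508141710305283027476418112, 8, 990),
    (217243231015799044247430120797128768, 11, 720), (217249303336428167447547420023769184, 11, 720)]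

theorem classData_M11 : ClassData Spor.M11 (cls11.map fun r => (tp r.1, r.2)) :=
  classData gen_M11 cls11 1600 (test_M11 (by decide +kernel)) (by decide +kernel) (by decide +kernel)
    (by decide +kernel) card_M11

theorem card_conjClasses_M11 : Nat.card (ConjClasses Spor.M11) = 10 := classData_M11.card_conjClasses

theorem card_orderOf_M11 (n : ℕ) : Nat.card {g : Spor.M11 // orderOf g = n} =
    ((cls11.filter fun r => r.2.1 = n).map fun r => r.2.2).sum := by
  rw [classData_M11.card_orderOf, List.filter_map, List.map_map]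
  rfl

theorem card_cent_M11 (x : Spor.M11) :
    ∃ r ∈ cls11, orderOf x = r.2.1 ∧ Nat.card (Subgroup.centralizer ({x} : Set Spor.M11)) * r.2.2 = 7920 := by
  obtain ⟨_, hr, h⟩ := classData_M11.card_cent x
  obtain ⟨r, hr', rfl⟩ := List.mem_map.1 hr
  exact ⟨r, hr', card_M11 ▸ h⟩

end Cfsg.Agent.Golay
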