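import Mathlib
import Cfsg.Agent.Golay.Cent

/-!
Homomorphisms out of generated groups, defined by an equivariant labelling.
-/

namespace Cfsg.Agent.Golay

open MulAction Finset
open scoped Pointwise Matrix LinearAlgebra.Projectivization

section
variable {Γ : Type*} [Group Γ] {gc : Γ → ℕ} {H : Subgroup Γ} {cs : List ℕ} {Ω : Type*}
  [MulAction Γ Ω]

theorem Gen.exists_hom (hgen : Gen gc H cs) {T V : Type*} [Group T] [MulAction T V]
    (hT : ∀ s t : T, (∀ v : V, s • v = t • v) → s = t) (f : V → Ω) (hf : Function.Injective f)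
    (h : ∀ g ∈ H, gc g ∈ cs → ∃ t : T, ∀ v, g • f v = f (t • v)) :
    ∃ φ : H →* T, ∀ (g : H) v, g.1 • f v = f (φ g • v) := by
  let K : Subgroup Γ :=
    { carrier := {g | ∃ t : T, ∀ v, g • f v = f (t • v)}
      one_mem' := ⟨1, by simp⟩
      mul_mem' := fun ⟨s, hs⟩ ⟨t, ht⟩ => ⟨s * t, fun v => by rw [mul_smul, ht, hs, mul_smul]⟩
      inv_mem' := fun ⟨t, ht⟩ => ⟨t⁻¹, fun v => by rw [inv_smul_eq_iff, ht, smul_inv_smul]⟩ }
  choose φ hφ using fun g : H => hgen.le K h g.2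
  exact ⟨MonoidHom.mk' φ fun a b => hT _ _ fun v => hf (by
    rw [← hφ, mul_smul, ← hφ, ← hφ, ← mul_smul]; rfl), hφ⟩

theorem Gen.exists_hom_GL (hgen : Gen gc H cs) {K ι : Type*} [Field K] [Fintype ι]
    [DecidableEq ι] (f : (ι → K) → Ω) (hf : Function.Injective f)
    (h : ∀ g ∈ H, gc g ∈ cs → ∃ M : Matrix ι ι K, ∀ v, g • f v = f (M *ᵥ v)) :
    ∃ φ : H →* GL ι K, ∀ (g : H) v, g.1 • f v = f ((φ g).1 *ᵥ v) := by
  refine hgen.exists_hom (T := GL ι K) (fun s t e => Units.ext (Matrix.ext_iff_smul.2 e)) f hf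
    fun g hg hc => ?_
  obtain ⟨M, hM⟩ := h g hg hc
  obtain ⟨u, rfl⟩ := Matrix.mulVec_injective_iff_isUnit.1 fun v w (e : M *ᵥ v = M *ᵥ w) =>
    hf (MulAction.injective g ((hM v).trans (e ▸ (hM w).symm)))
  exact ⟨u, hM⟩

theorem Gen.exists_hom_PSL (hgen : Gen gc H cs) {K ι : Type*} [Field K] [Fintype ι]
    [DecidableEq ι] (f : (ι → K) → Ω) (h1 : ∀ v ≠ 0, ∀ w ≠ 0, f v = f w ↔ ∃ c : K, c • w = v)
    (h : ∀ g ∈ H, gc g ∈ cs → ∃ M : Matrix ι ι K, M.det = 1 ∧ ∀ v ≠ 0, g • f v = f (M *ᵥ v)) :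
    ∃ φ : H →* Matrix.ProjectiveSpecialLinearGroup ι K, ∀ g : H, φ g = 1 →
      ∀ v ≠ 0, g.1 • f v = f v := by
  have h2 : ∀ v hv, f (Projectivization.mk K v hv).rep = f v := fun v hv =>
    (h1 _ (Projectivization.rep_nonzero _) _ hv).2 ((Projectivization.mk_eq_mk_iff' K _ _
      (Projectivization.rep_nonzero _) hv).1 (Projectivization.mk_rep _))
  obtain ⟨φ, hφ⟩ := hgen.exists_hom (T := Matrix.ProjectiveSpecialLinearGroup ι K)
    (V := ℙ K (ι → K)) (fun _ _ => eq_of_smul_eq_smul) (fun p => f p.rep) (fun p q e => by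
      rw [← p.mk_rep, ← q.mk_rep, Projectivization.mk_eq_mk_iff']
      exact (h1 _ p.rep_nonzero _ q.rep_nonzero).1 e) fun g hg hc => by
    obtain ⟨M, hM, e⟩ := h g hg hc
    obtain ⟨M', rfl⟩ : ∃ M' : Matrix.SpecialLinearGroup ι K, M'.1 = M := ⟨⟨M, hM⟩, rfl⟩
    refine ⟨QuotientGroup.mk M', fun p => ?_⟩
    induction p using Projectivization.ind with | _ v hv =>
    rw [Matrix.ProjectiveSpecialLinearGroup.smul_proj_mk, Projectivization.smul_mk, h2, h2]
    exact e v hv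
  refine ⟨φ, fun g hg v hv => ?_⟩
  have := hφ g (Projectivization.mk K v hv)
  rwa [hg, one_smul, h2] at this

variable {G0 : Subgroup Γ} {P : Ω → Prop} {code : Ω → ℕ} {prep : ℕ → ℕ} {act : ℕ → ℕ → ℕ}

/-- the equivariance of a labelling, checked on codes -/
theorem IsCAct.equivariant (A : IsCAct gc G0 P code prep act) (hH : H ≤ G0) {V T : Type*}
    {f : V → Ω} {tbl : V → ℕ} {Q : V → Prop} (hf : ∀ v, Q v → P (f v) ∧ code (f v) = tbl v)
    (a : T → V → V) {R : T → Prop} (L : List T) (hL : L.length = cs.length)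
    (h : ∀ l ∈ cs.zip L, R l.2 ∧ ∀ v, Q v → Q (a l.2 v) ∧ act (prep l.1) (tbl v) = tbl (a l.2 v)) :
    ∀ g ∈ H, gc g ∈ cs → ∃ t, R t ∧ ∀ v, Q v → g • f v = f (a t v) := by
  intro g hg hc
  obtain ⟨i, hi, e⟩ := List.getElem_of_mem hc
  have h1 := h (cs[i], L[i]) (List.mem_iff_getElem.2 ⟨i, by simp; omega, by simp⟩)
  refine ⟨L[i], h1.1, fun v hv => ?_⟩
  obtain ⟨h2, h3⟩ := h1.2 v hv
  refine A.inj _ _ (A.smul g (hH hg) _ (hf v hv).1) (hf _ h2).1 ?_
  rw [← A.act_eq g (hH hg) _ (hf v hv).1, (hf v hv).2, (hf _ h2).2, ← e, h3]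

theorem IsCAct.equivariant' (A : IsCAct gc G0 P code prep act) (hH : H ≤ G0) {V T : Type*}
    {f : V → Ω} {tbl : V → ℕ} (hf : ∀ v, P (f v) ∧ code (f v) = tbl v)
    (a : T → V → V) (L : List T) (hL : L.length = cs.length)
    (h : ∀ l ∈ cs.zip L, ∀ v, act (prep l.1) (tbl v) = tbl (a l.2 v)) :
    ∀ g ∈ H, gc g ∈ cs → ∃ t, ∀ v, g • f v = f (a t v) := fun g hg hc =>
  (A.equivariant hH (Q := fun _ => True) (R := fun _ => True) (fun v _ => hf v) a L hL
    (fun l hl => ⟨trivial, fun v _ => ⟨trivial, h l hl v⟩⟩) g hg hc).imp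
    fun _ ht v => ht.2 v trivial

theorem inj_of_tbl {V : Type*} {f : V → Ω} {tbl : V → ℕ} (hf : ∀ v, P (f v) ∧ code (f v) = tbl v)
    (h : Function.Injective tbl) : Function.Injective f := fun v w e =>
  h (by rw [← (hf v).2, ← (hf w).2, e])

/-- the product of two coded actions -/
theorem IsCAct.prod {Ω' : Type*} [MulAction Γ Ω'] {P' : Ω' → Prop} {code' : Ω' → ℕ}
    {act' : ℕ → ℕ → ℕ} (A : IsCAct gc G0 P code prep act) (B : IsCAct gc G0 P' code' prep act')
    {w : ℕ} (hw : ∀ x, P x → code x < 2 ^ w) :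
    IsCAct gc G0 (fun z : Ω × Ω' => P z.1 ∧ P' z.2) (fun z => code z.1 + 2 ^ w * code' z.2) prep
      fun G c => Nat.add (act G (Nat.land c (ones w)))
        (Nat.shiftLeft (act' G (Nat.shiftRight c w)) w) := by
  have h1 : ∀ x y, P x → Nat.land (code x + 2 ^ w * y) (ones w) = code x := fun x y hx => by
    show (code x + 2 ^ w * y) &&& _ = _
    rw [ones_eq, Nat.and_two_pow_sub_one_eq_mod, Nat.add_mul_mod_self_left,
      Nat.mod_eq_of_lt (hw x hx)]
  have h2 : ∀ x y, P x → Nat.shiftRight (code x + 2 ^ w * y) w = y := fun x y hx => by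
    show (code x + 2 ^ w * y) >>> w = _
    rw [Nat.shiftRight_eq_div_pow, Nat.add_mul_div_left _ _ (by positivity),
      Nat.div_eq_of_lt (hw x hx), zero_add]
  refine ⟨fun g hg x hx => ⟨A.smul g hg _ hx.1, B.smul g hg _ hx.2⟩, fun x y hx hy e => ?_,
    fun g hg x hx => ?_⟩
  · refine Prod.ext (A.inj _ _ hx.1 hy.1 ?_) (B.inj _ _ hx.2 hy.2 ?_)
    · rw [← h1 _ (code' x.2) hx.1, e, h1 _ _ hy.1]
    · rw [← h2 _ (code' x.2) hx.1, e, h2 _ _ hy.1]
  · rw [h1 _ _ hx.1, h2 _ _ hx.1, A.act_eq g hg _ hx.1, B.act_eq g hg _ hx.2]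
    show code (g • x.1) + code' (g • x.2) <<< w = _
    rw [Nat.shiftLeft_eq, mul_comm]; rfl

end

theorem fc_lt (F : Finset (Finset GolayPt)) : fc F < 2 ^ (24 * F.card) := by
  have h : ∀ A : Finset ℕ, (∀ x ∈ A, x < 2 ^ 24) → rcode A < 2 ^ (24 * A.card) := fun A hA => by
    choose! e he he' using fun i (hi : i < A.card) => rk_surj hi
    have h1 : rcode A = pack 24 e A.card := by
      unfold rcode pack
      refine (sum_bij (fun i _ => e i) (fun i hi => he i (mem_range.1 hi)) (fun i hi j hj h => by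
        rw [← he' i (mem_range.1 hi), h, he' j (mem_range.1 hj)]) (fun x hx =>
        ⟨rk A x, mem_range.2 (rk_lt_card hx), rk_inj (he _ (rk_lt_card hx)) hx
          (he' _ (rk_lt_card hx))⟩) (fun i hi => by rw [he' i (mem_range.1 hi)])).symm
    rw [h1]
    exact pack_lt fun i hi => hA _ (he i hi)
  rw [← card_image_of_injective F mk_injective]
  exact h _ (image_mk_lt F)

/-- tuples of sets -/
theorem isCAct_tup (G0 : Subgroup P24) (k : ℕ) :
    IsCAct pc G0 (fun _ : Fin k → Finset GolayPt => True)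
      (fun x => pack 24 (fun i => if h : i < k then mk (x ⟨i, h⟩) else 0) k) mat
      fun G c => packC 24 (fun i => act G (get 24 c i)) k := by
  have h1 : ∀ x : Fin k → Finset GolayPt, ∀ i < k,
      (if h : i < k then mk (x ⟨i, h⟩) else 0) < 2 ^ 24 := fun x i hi => by
    rw [dif_pos hi]; exact mk_lt _
  refine ⟨fun _ _ _ _ => trivial, fun x y _ _ e => funext fun i => ?_, fun g _ x _ => ?_⟩
  · simpa [mk_inj] using pack_inj (h1 x) (h1 y) e i i.2
  · rw [packC_eq]
    refine pack_congr fun i hi => ?_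
    rw [get_pack (h1 x), if_pos hi, dif_pos hi, dif_pos hi, act_pc]; rfl

theorem surjective_of_card_ker {G T : Type*} [Group G] [Group T] [Finite G] [Finite T]
    (φ : G →* T) {k : ℕ} (h : Nat.card G = k * Nat.card T) (hk : Nat.card φ.ker ≤ k) :
    Function.Surjective φ := by
  have h1 := Subgroup.card_mul_index φ.ker
  rw [Subgroup.index_ker, h] at h1
  have h2 : 0 < k := lt_of_lt_of_le Nat.card_pos hk
  rw [← MonoidHom.range_eq_top, ← Subgroup.card_eq_iff_eq_top]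
  refine le_antisymm (Subgroup.card_le_card_group _) (Nat.le_of_mul_le_mul_left ?_ h2)
  rw [← h1]
  exact Nat.mul_le_mul_right _ hk

theorem card_ker_of_surjective {G T : Type*} [Group G] [Group T] [Finite T]
    {φ : G →* T} (hφ : Function.Surjective φ) {k : ℕ} (h : Nat.card G = k * Nat.card T) :
    Nat.card φ.ker = k := by
  have h1 := Subgroup.card_mul_index φ.ker
  rw [Subgroup.index_ker, h, MonoidHom.range_eq_top.2 hφ, Subgroup.card_top] at h1
  exact Nat.eq_of_mul_eq_mul_right Nat.card_pos h1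

theorem equiv_of_ker {G T : Type*} [Group G] [Group T] [Finite T]
    (φ : G →* T) (h : Nat.card G = Nat.card T) (hk : ∀ g, φ g = 1 → g = 1) : Nonempty (G ≃* T) :=
  ⟨MulEquiv.ofBijective φ ((Nat.bijective_iff_injective_and_card φ).2
    ⟨(injective_iff_map_eq_one φ).2 hk, h⟩)⟩

/-- the subgroup generated by the permutations with the given codes -/
def Cl (cs : List ℕ) : Subgroup P24 := Subgroup.closure {g | pc g ∈ cs}

theorem gen_Cl {cs : List ℕ} (h : sumL (permErr 24 5) cs = 0) : Gen pc (Cl cs) cs :=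
  ⟨fun c hc => ⟨tp c, Subgroup.subset_closure (by
    show pc (tp c) ∈ cs; rwa [pc_tp (sumL_eq_zero h c hc)]), pc_tp (sumL_eq_zero h c hc)⟩,
    Subgroup.closure_mono fun _ hg => ⟨Subgroup.subset_closure hg, hg⟩⟩

theorem Cl_le {cs : List ℕ} {H : Subgroup P24} (h : In pc H cs) : Cl cs ≤ H :=
  (Subgroup.closure_le _).2 fun g hg => by
    obtain ⟨k, hk, e⟩ := h _ hg
    exact pc_injective e ▸ hk

theorem card_of_bfs {H : Subgroup P24} {cs : List ℕ} (hgen : Gen pc H cs) (fuel : ℕ) {N : ℕ}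
    (h : bfs mul (mapL (fun c => c) cs) one fuel
      (fun L _ => Nat.succ (sumL (fun c => isZ ((fun _ => 0) c)) L)) = N + 1) :
    Nat.card H = N := by
  have := ncard_filter_of_bfs hgen fuel (fun _ => True) (fun _ => 0) (by simp) h
  rw [← this, ← Nat.card_coe_set_eq]
  exact Nat.card_congr (Equiv.subtypeEquivRight fun _ => by simp)

/-- a subgroup of prime order is generated by an element of that order -/
theorem exists_zpowers_of_card {G : Type*} [Group G] {X : Subgroup G} {p : ℕ} (hp : p.Prime)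
    (h : Nat.card X = p) : ∃ x : G, orderOf x = p ∧ X = Subgroup.zpowers x := by
  have := Fact.mk hp
  have : Finite X := Nat.finite_of_card_ne_zero (h ▸ hp.ne_zero)
  obtain ⟨x, hx⟩ := exists_prime_orderOf_dvd_card' (G := X) p (h ▸ dvd_rfl)
  rw [← Subgroup.orderOf_coe] at hx
  exact ⟨x, hx, (Subgroup.eq_of_le_of_card_ge (Subgroup.zpowers_le.2 x.2)
    (by rw [Nat.card_zpowers, hx, h])).symm⟩

theorem card_inter_Fx_modEq {g : P24} {p : ℕ} (hp : p.Prime) (hg : g ^ p = 1)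
    {D : Finset GolayPt} (hD : g • D = D) : D.card ≡ (D ∩ Fx g).card [MOD p] := by
  have := Fact.mk hp
  have h1 := Equiv.Perm.card_compl_support_modEq (p := p) (n := 1)
    (σ := (g.subtypePerm (mem_iff_of_smul_eq hD) : Equiv.Perm D))
    (by rw [pow_one, Equiv.Perm.subtypePerm_pow]; ext; simp [hg])
  rw [Fintype.card_coe] at h1
  convert h1.symm
  rw [← card_map (Function.Embedding.subtype _)]
  congr 1
  ext a
  simp only [mem_inter, mem_Fx, mem_map, mem_compl, Equiv.Perm.mem_support, not_not,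
    Function.Embedding.subtype_apply, Subtype.ext_iff, Equiv.Perm.subtypePerm_apply]
  exact ⟨fun h => ⟨⟨a, h.1⟩, h.2, rfl⟩, by rintro ⟨b, h, rfl⟩; exact ⟨b.2, h⟩⟩

theorem exists_fix_of_not_dvd {g : P24} {p : ℕ} (hp : p.Prime) (hg : g ^ p = 1)
    {D : Finset GolayPt} (hD : g • D = D) (h : ¬ p ∣ D.card) : ∃ a ∈ D, g a = a := by
  by_contra hn
  have h1 := card_inter_Fx_modEq hp hg hD
  rw [show D ∩ Fx g = ∅ from eq_empty_of_forall_notMem fun a ha =>
    hn ⟨a, (mem_inter.1 ha).1, mem_Fx.1 (mem_inter.1 ha).2⟩, card_empty] at h1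
  exact h (Nat.modEq_zero_iff_dvd.1 h1)

end Cfsg.Agent.Golay
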