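import Mathlib
import Cfsg.Agent.Golay.Six

/-!
Some subgroups of the Mathieu groups and their quotients.
-/

namespace Cfsg.Agent.Golay

open MulAction Finset
open scoped Pointwise Matrix

/-- index of a vector -/
def vIdx {p n : ℕ} (v : Fin n → ZMod p) : ℕ := ∑ i : Fin n, (v i).val * p ^ (i : ℕ)

theorem card_GL23 : Nat.card (GL (Fin 2) (ZMod 3)) = 48 := by
  rw [Matrix.card_GL_field]; simp [Fin.prod_univ_succ]

theorem card_GL32 : Nat.card (GL (Fin 3) (ZMod 2)) = 168 := by
  rw [Matrix.card_GL_field]; simp [Fin.prod_univ_succ]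

theorem pt_spec {V : Type*} {tbl : V → ℕ} (h : ∀ v, tbl v < 24) :
    ∀ v, True ∧ gE.enc (pt (tbl v)) = tbl v := fun v => ⟨trivial, enc_pt (h v)⟩

theorem cj_spec {V : Type*} {tbl : V → ℕ} (h : ∀ v, permErr 24 5 (tbl v) = 0) :
    ∀ v, True ∧ pc (cj (tp (tbl v))).val = tbl v := fun v => ⟨trivial, pc_tp (h v)⟩

theorem fd_spec {V : Type*} {tbl : V → ℕ} {k : ℕ} (h : ∀ v, FOk k (tbl v)) :
    ∀ v, (fd k (tbl v)).card = k ∧ fc (fd k (tbl v)) = tbl v := fun v => ⟨(h v).card, (h v).fc_fd⟩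

theorem um_spec {V : Type*} {tbl : V → ℕ} (h : ∀ v, tbl v < 2 ^ 24) :
    ∀ v, True ∧ mk (um (tbl v)) = tbl v := fun v => ⟨trivial, mk_um (h v)⟩

theorem IsCAct.inj_tbl {Γ Ω : Type*} [Group Γ] [MulAction Γ Ω] {gc : Γ → ℕ} {G0 : Subgroup Γ}
    {P : Ω → Prop} {code : Ω → ℕ} {prep : ℕ → ℕ} {act : ℕ → ℕ → ℕ}
    (_ : IsCAct gc G0 P code prep act) {V : Type*} {f : V → Ω} {tbl : V → ℕ}
    (hf : ∀ v, P (f v) ∧ code (f v) = tbl v) (h : Function.Injective tbl) :
    Function.Injective f := inj_of_tbl hf h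

theorem IsCAct.err_zero {Γ Ω : Type*} [Group Γ] [MulAction Γ Ω] {gc : Γ → ℕ} {G0 : Subgroup Γ}
    {P : Ω → Prop} {code : Ω → ℕ} {prep : ℕ → ℕ} {act : ℕ → ℕ → ℕ}
    (A : IsCAct gc G0 P code prep act) {g : Γ} (hg : g ∈ G0) {x : Ω} {c : ℕ}
    (hx : P x ∧ code x = c) (h : g • x = x) : Nat.xor (act (prep (gc g)) c) c = 0 := by
  rw [← hx.2, A.act_eq g hg x hx.1, h, xor_eq_zero_iff']

/-! ### `M9` -/

theorem St_d0_le : St M24 (um 340831) ≤ Spor.M12 := fun _ hg => ⟨hg.1, squareDodecad_eq ▸ hg.2⟩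

/-- the stabiliser of three points of the dodecad -/
abbrev M9 : Subgroup P24 := St M24 (((um 340831, pt 0), pt 1), pt 2)

theorem dod_pt3_trans {d : Finset GolayPt} (hd : d ∈ dodecads) {p q r : GolayPt} (hp : p ∈ d)
    (hq : q ∈ d) (hr : r ∈ d) (hpq : p ≠ q) (hpr : p ≠ r) (hqr : q ≠ r) :
    ∃ g ∈ M24, g • (((um 340831, pt 0), pt 1), pt 2) = (((d, p), q), r) := by
  obtain ⟨g, hg, e, e'⟩ := dod_tuple_trans (k := 3) (by norm_num) dod0_mem hd
    (x := ![pt 0, pt 1, pt 2]) (by decide) (inj3 hpq hpr hqr) (by decide +kernel)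
    (by simp [Fin.forall_fin_succ, *])
  exact ⟨g, hg, Prod.ext (Prod.ext (Prod.ext e (e' 0)) (e' 1)) (e' 2)⟩

theorem card_M9 : Nat.card M9 = 72 := by
  have h1 : St M24 ((um 340831, pt 0), pt 1) = St Spor.M11 (pt 1) := by
    rw [M11_eq, squareDodecad_eq, St_prod]; rfl
  have h2 : ∀ y, y ∈ um 340828 ↔ y ∈ um 340831 ∧ pt 0 ≠ y ∧ pt 1 ≠ y := by decide +kernel
  rw [M9, St_prod]
  refine card_St_of_trans (S := ↑(um 340828)) (fun g hg => (h2 _).2 ⟨?_, fun e => ?_, fun e => ?_⟩)
    (fun y hy => ?_) (h1 ▸ card_St_M11 (by decide +kernel)) (m := 10)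
    (by rw [ncard_um (by norm_num)]; decide +kernel) (by norm_num) rfl
  · exact mem_of_smul_eq (congrArg (·.1.1) hg.2) (by decide +kernel)
  · exact absurd (g.injective ((congrArg (·.1.2) hg.2).trans e)) (by decide)
  · exact absurd (g.injective ((congrArg (·.2) hg.2).trans e)) (by decide)
  · obtain ⟨g, hg, e⟩ := dod_pt3_trans dod0_mem (p := pt 0) (q := pt 1) (by decide +kernel)
      (by decide +kernel) ((h2 y).1 hy).1 (by decide) ((h2 y).1 hy).2.1 ((h2 y).1 hy).2.2
    exact ⟨g, ⟨hg, congrArg Prod.fst e⟩, congrArg Prod.snd e⟩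

/-- generators of `M9` -/
def gensM9 : List ℕ := [648154481660236051385864952584734752, 898742143189044893377746329054414880]

theorem gen_M9 : Gen pc M9 gensM9 :=
  gen_of_chain (((((fixTest_um (by norm_num)).prod (fixTest_pt (by norm_num))).prod
    (fixTest_pt (by norm_num))).prod (fixTest_pt (by norm_num))).in_St (by decide +kernel)) card_M9
    [(23, 16436384, 3, [[1, 0, 0, 1], [0, 0, 1, 1, 0, 0]]), (3, 584, 1, [[0, 0, 1, 0]]),
      (4, 4112, 1, [])] (by decide +kernel)

theorem M9_trans {x y : GolayPt} (hx : x ∉ um 340831) (hy : y ∉ um 340831) :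
    ∃ g ∈ M9, g • x = y :=
  trans_of_base (S := ↑(um 16436384)) ((isCAct_pt M24).transitive inf_le_left gen_M9.1 (x0 := none)
    trivial (c0 := 23) rfl 20 (N := 12) (by norm_num) (by decide +kernel) (Set.toFinite _)
    (by rw [ncard_um (by norm_num)]; decide +kernel) fun g hg => mem_of_smul_eq (smul_M12' g
      (St_d0_le (mem_St.2 ⟨hg.1, congrArg (fun z => z.1.1.1) (mem_St.1 hg).2⟩))) (by decide +kernel))
    (by simpa [um_compl_d0]) (by simpa [um_compl_d0])

theorem M9_cube : ∀ x ∈ M9, x ^ 9 = 1 → x ^ 3 = 1 := fun x hx h => by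
  have := forall_mem_of_bfs gen_M9 80 (fun c => andZ (Nat.xor (pw c 9) one) (Nat.xor (pw c 3) one))
    (by decide +kernel) x hx
  rwa [andZ_eq, pw_pc, pw_pc, h, pc_one, if_pos (xor_eq_zero_iff'.2 rfl), xor_eq_zero_iff', ← pc_one,
    pc_inj] at this

theorem M9_ncard_cube : {x | x ∈ M9 ∧ x ^ 3 = 1}.ncard = 9 :=
  ncard_filter_of_bfs gen_M9 80 _ (fun c => Nat.xor (pw c 3) one)
    (fun g _ => by rw [pw_pc, xor_eq_zero_iff', ← pc_one, pc_inj]) (by decide +kernel)

/-- labels of the eight elements of order three -/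
def tblQ8 : QuaternionGroup 2 → ℕ
  | .a i => [487607080158395075740321133224921120, 984769902586367543974814854303385632,
      928718206277989008510816407558424608, 984534996141977609297800625156032544].getD i.val 0
  | .xa i => [487655643029606470073469406179395616, 928952864966028496604741530750814240,
      929000492124499343650182431580424224, 487373122709212905255923294881187872].getD i.val 0

theorem M9_hom : ∃ φ : M9 →* QuaternionGroup 2, ∀ g, φ g = 1 → g ^ 3 = 1 := by
  have h0 := cj_spec (tbl := tblQ8) (by decide +kernel)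
  obtain ⟨φ, hφ⟩ := gen_M9.exists_hom (T := QuaternionGroup 2) (V := QuaternionGroup 2)
    (fun s t e => by simpa using e 1) _ ((isCAct_cj M24).inj_tbl h0 (by decide +kernel))
    ((isCAct_cj M24).equivariant' inf_le_left h0 (· * ·) [.xa 0, .xa 3] rfl (by decide +kernel))
  refine ⟨φ, fun g hg => ?_⟩
  have h1 := hφ g 1
  rw [hg, one_smul] at h1
  have := forall_mem_of_bfs gen_M9 80 (fun c => andZ (Nat.xor (cjc c (tblQ8 1)) (tblQ8 1))
    (Nat.xor (pw c 3) one)) (by decide +kernel) g g.2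
  rw [andZ_eq, if_pos, pw_pc, xor_eq_zero_iff', ← pc_one, pc_inj] at this
  · exact Subtype.ext this
  · exact (isCAct_cj M24).err_zero g.2.1 (h0 1) h1

/-! ### the centraliser of an involution of `M11` -/

theorem card_cent11 : Nat.card (St Spor.M11 (cj (tp c2A))) = 48 :=
  card_inf_stabilizer card_M11 ((isCAct_cj M24).ncard_orbit_eq (inf_le_left.trans inf_le_left)
    gen_M11 trivial pc_2A 170 (N := 165) (by norm_num) (by decide +kernel)) (by norm_num) rfl

theorem gen_cent11 : Gen pc (St Spor.M11 (cj (tp c2A)))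
    [716146062361566097043008109225804864, 731722996265023435542964160459476032] := by
  refine gen_of_chain ?_ card_cent11 [(1, 14, 1, [[0, 0], [0, 1, 0, 0]]), (4, 340816, 3, [[1]]),
    (2, 12, 1, [])] (by decide +kernel)
  rw [M11_eq, St_St]
  exact (((fixTest_mk mk_squareDodecad).prod (fixTest_pt (k := 0) (by norm_num))).prod
    (fixTest_cj (by decide +kernel))).in_St (by decide +kernel)

theorem cent11_equiv : Nonempty (St Spor.M11 (cj (tp c2A)) ≃* GL (Fin 2) (ZMod 3)) := by
  have h0 := pt_spec (tbl := fun v : Fin 2 → ZMod 3 => [0, 4, 12, 6, 13, 16, 9, 8, 18].getD (vIdx v) 0)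
    (by decide +kernel)
  obtain ⟨φ, hφ⟩ := gen_cent11.exists_hom_GL _ ((isCAct_pt M24).inj_tbl h0 (by decide +kernel))
    ((isCAct_pt M24).equivariant' (inf_le_left.trans (inf_le_left.trans inf_le_left)) h0
      Matrix.mulVec [!![1, 2; 2, 0], !![1, 2; 0, 1]] rfl (by decide +kernel))
  refine equiv_of_ker φ (card_cent11.trans card_GL23.symm) fun g hg => Subtype.ext ?_
  refine eq_one_of_fix_dod dod0_mem (s := univ.image fun v : Fin 2 → ZMod 3 =>
    pt ([0, 4, 12, 6, 13, 16, 9, 8, 18].getD (vIdx v) 0)) (by decide +kernel) (by decide +kernel)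
    g.2.1.1.1 (smul_M12 _ g.2.1.1) fun a ha => ?_
  obtain ⟨v, -, rfl⟩ := mem_image.1 ha
  simpa [hg] using hφ g v

/-! ### the quartet stabiliser -/

theorem quar_hom : ∃ φ : St M24 (um 340831, fd 4 cQuar) →* GL (Fin 2) (ZMod 3),
    Function.Surjective φ := by
  have h0 := cj_spec (tbl := fun v : Fin 2 → ZMod 3 => [984818244535754528103549039458486304,
    928718206277989008510816407558424608, 487607080158395075740321133224921120,
    809648025571350634416323764134740994, 630488151153570250854033705891136514,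
    232830186133421440756815622813352962, 891256915141300104684601826038906945,
    608132182080247986231149538876424257, 858249338590762411966147903161237569].getD (vIdx v) 0)
    (by decide +kernel)
  obtain ⟨φ, hφ⟩ := gen_Quar.exists_hom_GL _ ((isCAct_cj M24).inj_tbl h0 (by decide +kernel))
    ((isCAct_cj M24).equivariant' inf_le_left h0
      Matrix.mulVec [!![2, 0; 1, 1], !![2, 2; 1, 2]] rfl (by decide +kernel))
  refine ⟨φ, surjective_of_card_ker φ (k := 9)
    (by rw [card_St_quartet dod0_mem cQuar_ok.mem, card_GL23]) ?_⟩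
  have h1 := ncard_filter_of_bfs gen_Quar 440 _ (fun c => Nat.add
    (Nat.xor (cjc c 928718206277989008510816407558424608) 928718206277989008510816407558424608)
    (Nat.xor (cjc c 809648025571350634416323764134740994) 809648025571350634416323764134740994))
    (fun _ _ => Iff.rfl) (N := 9) (by decide +kernel)
  rw [← h1, ← Subgroup.card_map_of_injective (Subgroup.subtype_injective _), ← Nat.card_coe_set_eq]
  refine Nat.card_mono (Set.toFinite _) ?_
  rintro _ ⟨g, hg, rfl⟩
  have h2 := fun v => (isCAct_cj M24).err_zero g.2.1 (h0 v) ((hφ g v).trans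
    (by rw [show φ g = 1 from hg, Units.val_one, Matrix.one_mulVec]))
  have h3 := h2 ![1, 0]
  have h4 := h2 ![0, 1]
  rw [show vIdx ![(1 : ZMod 3), 0] = 1 by decide] at h3
  rw [show vIdx ![(0 : ZMod 3), 1] = 3 by decide] at h4
  exact ⟨g.2, add_eq_zero_iff'.2 ⟨h3, h4⟩⟩

theorem quar_trans {x y : GolayPt} (hx : x ∈ um 340831) (hy : y ∈ um 340831) :
    ∃ g ∈ St M24 (um 340831, fd 4 cQuar), g • x = y :=
  trans_of_base (S := ↑(um 340831)) ((isCAct_pt M24).transitive inf_le_left gen_Quar.1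
    (x0 := some 0) trivial (c0 := 0) rfl 20 (N := 12) (by norm_num) (by decide +kernel)
    (Set.toFinite _) (by rw [ncard_um (by norm_num)]; decide +kernel)
    fun g hg => mem_of_smul_eq (congrArg Prod.fst hg.2) zero_mem_d0) hx hy

theorem exists_normal_quot {G H T : Type*} [Group G] [Group H] [Group T] [Finite T] (e : G ≃* H)
    {φ : H →* T} (hφ : Function.Surjective φ) {k : ℕ} (h : Nat.card H = k * Nat.card T)
    {Q : H → Prop} (hQ : ∀ x, φ x = 1 → Q x) : ∃ (N : Subgroup G) (_ : N.Normal),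
      Nat.card N = k ∧ (∀ x ∈ N, Q (e x)) ∧ Nonempty (G ⧸ N ≃* T) :=
  have h1 : Function.Surjective (φ.comp e.toMonoidHom) := hφ.comp e.surjective
  ⟨_, inferInstance, card_ker_of_surjective h1 ((Nat.card_congr e.toEquiv).trans h),
    fun _ hx => hQ _ hx, ⟨QuotientGroup.quotientKerEquivOfSurjective _ h1⟩⟩

end Cfsg.Agent.Golay
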