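import Mathlib
import Cfsg.Agent.Golay.Loc
import Cfsg.Agent.Classical.SLBasic

/-!
The octad stabiliser as the stabiliser of a vector in `SL(5,2)`.
-/

namespace Cfsg.Agent.Golay

open MulAction Finset Cfsg.Agent.Classical
open scoped Pointwise Matrix

/-- over the field with two elements every invertible matrix has determinant one -/
def toSL2 {ι : Type*} [Fintype ι] [DecidableEq ι] :
    GL ι (ZMod 2) →* Matrix.SpecialLinearGroup ι (ZMod 2) :=
  MonoidHom.mk' (fun u => ⟨u.1, (zmod2_cases _).resolve_left u.det_ne_zero⟩) fun _ _ => rfl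

/-- the code words disjoint from the standard octad -/
def tbl32 (v : Fin 5 → ZMod 2) : ℕ := get 24
  495160388830156562606825441241731298975765654525748510650259068921832897304404380659321431492648153068823372450098455595738059126016745827174834437592944892007890379225702270279719682514896827033867226243856790058449612096483098624
  (vIdx v)

theorem card_stab_e0 : Nat.card (stabilizer (Matrix.SpecialLinearGroup (Fin 5) (ZMod 2))
    (Pi.single 0 1 : Fin 5 → ZMod 2)) = 322560 := by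
  have h1 := Nat.card_congr (orbitProdStabilizerEquivGroup
    (Matrix.SpecialLinearGroup (Fin 5) (ZMod 2)) (Pi.single 0 1 : Fin 5 → ZMod 2))
  have h0 : (Pi.single 0 1 : Fin 5 → ZMod 2) ≠ 0 := by decide
  have h2 : orbit (Matrix.SpecialLinearGroup (Fin 5) (ZMod 2)) (Pi.single 0 1 : Fin 5 → ZMod 2) =
      {0}ᶜ := by
    ext v
    refine ⟨by rintro ⟨g, rfl⟩; exact (smul_ne_zero_iff_ne g).2 h0, fun (hv : v ≠ 0) => ?_⟩
    obtain ⟨g, hg⟩ := exists_smul_eq (Matrix.SpecialLinearGroup (Fin 5) (ZMod 2))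
      (Projectivization.mk (ZMod 2) _ h0) (Projectivization.mk (ZMod 2) v hv)
    rw [Projectivization.smul_mk, Projectivization.mk_eq_mk_iff] at hg
    obtain ⟨c, hc⟩ := hg
    exact ⟨g, by rw [Subsingleton.elim c 1, one_smul] at hc; exact hc.symm⟩
  have h3 := SLBasic.card_SL (F := ZMod 2) 5 (by norm_num)
  rw [Nat.card_prod, h2, Nat.card_coe_set_eq, Set.ncard_compl, Set.ncard_singleton, Nat.card_fun,
    Nat.card_zmod, Nat.card_fin] at h1
  rw [← h1, Nat.card_zmod] at h3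
  generalize Nat.card (stabilizer (Matrix.SpecialLinearGroup (Fin 5) (ZMod 2))
    (Pi.single 0 1 : Fin 5 → ZMod 2)) = n at h3
  simp only [Fin.prod_univ_succ] at h3
  norm_num at h3
  omega

theorem oct_hom : ∃ ψ : St M24 oct0 →* Matrix.SpecialLinearGroup (Fin 5) (ZMod 2),
    Function.Injective ψ ∧ ψ.range = stabilizer _ (Pi.single 0 1 : Fin 5 → ZMod 2) ∧
    ∀ (g : St M24 oct0) v, g.1 • um (tbl32 v) = um (tbl32 ((ψ g).1 *ᵥ v)) := by
  have h0 := um_spec (tbl := tbl32) fun v => get_lt _ _ _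
  have h1 := (isCAct_mk M24).inj_tbl h0 (by decide +kernel)
  obtain ⟨φ, hφ⟩ := gen_Oct.exists_hom_GL _ h1
    ((isCAct_mk M24).equivariant' inf_le_left h0 Matrix.mulVec
      [!![1, 0, 1, 0, 0; 0, 1, 0, 1, 0; 0, 1, 1, 0, 1; 0, 1, 0, 0, 1; 0, 1, 1, 0, 0],
        !![1, 1, 0, 1, 0; 0, 1, 0, 1, 0; 0, 0, 1, 1, 0; 0, 0, 1, 1, 1; 0, 0, 1, 0, 1]] rfl
      (by simp only [gensOct, List.zip_cons_cons, List.forall_mem_cons]; decide +kernel))
  have h2 : Function.Injective (toSL2.comp φ) := by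
    refine (injective_iff_map_eq_one _).2 fun g hg => Subtype.ext (eq_one_of_nine g.2.1
      (le_trans (by decide +kernel) (card_le_card (s := oct0ᶜ) fun a ha => mem_Fx.2 ?_)))
    have h3 : ∀ a ∉ oct0, ∀ b ∉ oct0, (∀ i : Fin 5, b ∈ um (tbl32 (Pi.single i 1)) ↔
      a ∈ um (tbl32 (Pi.single i 1))) → b = a := by decide +kernel
    refine h3 a (by simpa using ha) _ ((mem_iff_of_smul_eq g.2.2 a).not.2 (by simpa using ha))
      fun i => mem_iff_of_smul_eq ?_ a
    rw [hφ, show (φ g).1 = 1 from congrArg Subtype.val hg, Matrix.one_mulVec]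
  refine ⟨_, h2, Subgroup.eq_of_le_of_card_ge ?_ ?_, hφ⟩
  · rintro _ ⟨g, rfl⟩
    refine h1 ((hφ g _).symm.trans ?_)
    show _ = um (tbl32 (Pi.single 0 1))
    rw [show um (tbl32 (Pi.single 0 1)) = oct0ᶜ by decide +kernel, smul_compl',
      show g.1 • oct0 = oct0 from g.2.2]
  · rw [card_stab_e0, ← card_oct0]
    exact (Nat.card_congr (MonoidHom.ofInjective h2).toEquiv).le

theorem mem_oct0_2A : tp c2A ∈ St M24 oct0 :=
  ⟨mem_2A, smul_eq_of_fix fun _ ha => mem_Fx.1 (Fx_2A ▸ ha)⟩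

theorem cent2A_le : St M24 (cj (tp c2A)) ≤ St M24 oct0 := fun g hg =>
  ⟨hg.1, show g • oct0 = oct0 by
    rw [← Fx_2A, ← Fx_conj, (mem_St_cj.1 hg).2, mul_inv_cancel_right]⟩

end Cfsg.Agent.Golay
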