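import Mathlib
import Cfsg.Agent.Golay.Fus
import Cfsg.Agent.Golay.Words

/-!
Extensions of permutation groups on the 24 points by sections of the permutation module: tails of rewriting
rules, and linear forms in them.
-/

set_option autoImplicit false

namespace Cfsg.Agent.Golay

open Cfsg.Agent.Comp Finset
open scoped Pointwise symmDiff

/-- parity of the intersection -/
def ip (s t : Finset GolayPt) : ZMod 2 := ((s ∩ t).card : ℕ)

theorem ip_comm (s t : Finset GolayPt) : ip s t = ip t s := by rw [ip, ip, inter_comm]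

theorem ip_symmDiff (s t u : Finset GolayPt) : ip (s ∆ t) u = ip s u + ip t u := by
  simp only [ip, ← dot_ind, ind_symmDiff, Pi.add_apply, add_mul, sum_add_distrib]

theorem ip_symmDiff' (s t u : Finset GolayPt) : ip u (s ∆ t) = ip u s + ip u t := by
  rw [ip_comm, ip_symmDiff, ip_comm s, ip_comm t]

theorem ip_empty (s : Finset GolayPt) : ip ∅ s = 0 := by simp [ip]

theorem ip_empty' (s : Finset GolayPt) : ip s ∅ = 0 := by simp [ip]

theorem ip_smul (g : P24) (s t : Finset GolayPt) : ip (g • s) t = ip s (g⁻¹ • t) := by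
  rw [ip, ip, ← card_smul_finset g⁻¹, smul_finset_inter, inv_smul_smul]

theorem ip_um {a b : ℕ} (ha : a < 2 ^ 24) (hb : b < 2 ^ 24) : ip (um a) (um b) = (pop 24 (Nat.land a b) : ℕ) := by
  rw [ip, ← pop_mk, mk_inter, mk_um ha, mk_um hb]

/-- the value of a linear form -/
def evF (W : ℕ → Finset GolayPt) (R F : ℕ) : ZMod 2 := ∑ ρ ∈ range R, ip (um (get 24 F ρ)) (W ρ)

variable {W : ℕ → Finset GolayPt} {R : ℕ}

theorem evF_xor (a b : ℕ) : evF W R (Nat.xor a b) = evF W R a + evF W R b := by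
  simp only [evF, ← sum_add_distrib, ← ip_symmDiff, ← um_xor, ← get_xor]
  rfl

theorem get_zero (w k : ℕ) : get w 0 k = 0 := by simp [get_eq]

theorem evF_zero : evF W R 0 = 0 := by simp [evF, get_zero, um_zero, ip_empty]

theorem get_shift {m : ℕ} (hm : m < 2 ^ 24) (ρ k : ℕ) :
    get 24 (Nat.shiftLeft m (Nat.mul 24 ρ)) k = if k = ρ then m else 0 := by
  have h := get_pack (w := 24) (f := fun i => if i = ρ then m else 0) (n := ρ + 1)
    (fun i _ => by split_ifs; exacts [hm, by norm_num]) k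
  rw [pack_succ, pack_eq_zero.2 fun i hi => if_neg hi.ne, zero_add, if_pos rfl, ← Nat.shiftLeft_eq] at h
  refine h.trans ?_
  split_ifs <;> first | rfl | omega

theorem evF_shift {m ρ : ℕ} (hm : m < 2 ^ 24) (hρ : ρ < R) :
    evF W R (Nat.shiftLeft m (Nat.mul 24 ρ)) = ip (um m) (W ρ) := by
  rw [evF, sum_eq_single_of_mem ρ (mem_range.2 hρ) fun k _ hk => by rw [get_shift hm, if_neg hk, um_zero, ip_empty],
    get_shift hm, if_pos rfl]

theorem evF_congr {W' : ℕ → Finset GolayPt} {R₀ F : ℕ} (hR : R₀ ≤ R) (h : ∀ ρ < R₀, W ρ = W' ρ)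
    (hF : F < 2 ^ (24 * R₀)) : evF W R F = evF W' R₀ F := by
  rw [evF, evF, ← sum_subset (range_subset_range.2 hR) fun ρ _ hρ => ?_]
  · exact sum_congr rfl fun ρ hρ => by rw [h ρ (mem_range.1 hρ)]
  · rw [get_eq, Nat.div_eq_of_lt (hF.trans_le (Nat.pow_le_pow_right two_pos
      (Nat.mul_le_mul_left _ (by simpa using hρ)))), Nat.zero_mod, um_zero, ip_empty]

theorem evF_mul (F k : ℕ) : evF W R (Nat.mul F (Nat.mod k 2)) = (k : ZMod 2) * evF W R F := by
  rw [← ZMod.natCast_mod k 2]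
  change evF W R (F * (k % 2)) = _
  rcases Nat.mod_two_eq_zero_or_one k with h | h <;> simp [h, evF_zero]

/-- the form of a sum of translates of unknowns at a functional -/
noncomputable def form (acc : List (ℕ × ℕ)) (u : ℕ) : ℕ :=
  List.rec (motive := fun _ => ℕ) 0 (fun x _ ih => Nat.xor (Nat.shiftLeft (act x.1 u) (Nat.mul 24 x.2)) ih) acc

/-- `acc` describes the vector `s` -/
def VF (W : ℕ → Finset GolayPt) (R : ℕ) (acc : List (ℕ × ℕ)) (s : Finset GolayPt) : Prop :=
  ∀ u, evF W R (form acc (mk u)) = ip u s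

theorem VF.nil : VF W R [] ∅ := fun u => by rw [ip_empty']; exact evF_zero

theorem VF.cons {acc : List (ℕ × ℕ)} {s : Finset GolayPt} (h : VF W R acc s) {i : ℕ} (hi : i < R) (g : P24) :
    VF W R ((mat (pc g), i) :: acc) ((g⁻¹ • W i) ∆ s) := fun u => by
  change evF W R (Nat.xor (Nat.shiftLeft (act (mat (pc g)) (mk u)) (Nat.mul 24 i)) (form acc (mk u))) = _
  rw [evF_xor, h, act_pc, evF_shift (mk_lt _) hi, um_mk, ip_smul, ip_symmDiff']

variable {E : Type*} [Group E]

/-- the kernel of `π` is the section of the permutation module given by the functionals `Z` and `U` -/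
structure Ext (π : E →* P24) (Rep : Finset GolayPt → E → Prop) (Z U : List ℕ) : Prop where
  add : ∀ {s t m n}, Rep s m → Rep t n → Rep (s ∆ t) (m * n)
  conj : ∀ {s n} (g), Rep s n → Rep (π g • s) (g * n * g⁻¹)
  ex : ∀ {n}, π n = 1 → ∃ s, Rep s n
  ker : ∀ {s n}, Rep s n → π n = 1
  hZ : ∀ {s n}, Rep s n → ∀ z ∈ Z, ip (um z) s = 0
  hS : ∀ {s}, (∀ z ∈ Z, ip (um z) s = 0) → ∃ n, Rep s n
  hU : ∀ {s n}, Rep s n → (n = 1 ↔ ∀ u ∈ U, ip (um u) s = 0)

variable {π : E →* P24} {Rep : Finset GolayPt → E → Prop} {Z U : List ℕ}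

theorem Ext.zero (X : Ext π Rep Z U) : Rep ∅ 1 := by
  obtain ⟨n, h⟩ := X.hS (s := ∅) fun z _ => ip_empty' _
  rwa [(X.hU h).2 fun u _ => ip_empty' _] at h

theorem Ext.sq (X : Ext π Rep Z U) {s : Finset GolayPt} {n : E} (h : Rep s n) : n * n = 1 :=
  (X.hU (X.add h h)).2 fun u _ => by rw [symmDiff_self]; exact ip_empty' _

/-- `x` and `y` differ by an element of the kernel described by the new entries of `acc'` -/
def Step (Rep : Finset GolayPt → E → Prop) (W : ℕ → Finset GolayPt) (R : ℕ) (acc acc' : List (ℕ × ℕ)) (x y : E) :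
    Prop :=
  ∃ s n, Rep s n ∧ x = y * n ∧ ∀ t, VF W R acc t → VF W R acc' (s ∆ t)

variable {acc acc' acc'' : List (ℕ × ℕ)} {x y z : E}

theorem Step.refl (X : Ext π Rep Z U) : Step Rep W R acc acc x x :=
  ⟨∅, 1, X.zero, (mul_one x).symm, fun t h => by rwa [← bot_eq_empty, bot_symmDiff]⟩

theorem Step.trans (X : Ext π Rep Z U) (h : Step Rep W R acc acc' x y) (h' : Step Rep W R acc' acc'' y z) :
    Step Rep W R acc acc'' x z := by
  obtain ⟨s, n, h1, rfl, h2⟩ := h
  obtain ⟨s', n', h3, rfl, h4⟩ := h'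
  exact ⟨s' ∆ s, n' * n, X.add h3 h1, mul_assoc _ _ _, fun t h => symmDiff_assoc s' s t ▸ h4 _ (h2 t h)⟩

theorem Step.symm (X : Ext π Rep Z U) (h : Step Rep W R acc acc' x y) : Step Rep W R acc acc' y x := by
  obtain ⟨s, n, h1, rfl, h2⟩ := h
  exact ⟨s, n, h1, by rw [mul_assoc, X.sq h1, mul_one], h2⟩

theorem Step.left (p : E) (h : Step Rep W R acc acc' x y) : Step Rep W R acc acc' (p * x) (p * y) := by
  obtain ⟨s, n, h1, rfl, h2⟩ := h
  exact ⟨s, n, h1, (mul_assoc _ _ _).symm, h2⟩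

theorem Step.rule (X : Ext π Rep Z U) {i : ℕ} (hi : i < R) {n : E} (h : Rep (W i) n) (y b : E) :
    Step Rep W R acc ((mat (pc (π b)), i) :: acc) (y * n * b) (y * b) :=
  ⟨_, _, X.conj b⁻¹ h, by group, fun t ht => map_inv π b ▸ ht.cons hi _⟩

theorem Step.eq_iff (X : Ext π Rep Z U) (hU : ∀ u ∈ U, u < 2 ^ 24) (h : Step Rep W R [] acc x y) :
    x = y ↔ ∀ u ∈ U, evF W R (form acc u) = 0 := by
  obtain ⟨s, n, h1, rfl, h2⟩ := h
  rw [mul_eq_left, X.hU h1]
  refine forall₂_congr fun u hu => ?_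
  rw [← mk_um (hU u hu), h2 _ VF.nil, mk_um (hU u hu), ← bot_eq_empty, symmDiff_bot]

/-! ### the computations -/

/-- an entry of a list of words -/
noncomputable def nthW (l : List (List ℕ)) : ℕ → List ℕ :=
  List.rec (motive := fun _ => ℕ → List ℕ) (fun _ => [])
    (fun x _ ih i => Nat.rec (motive := fun _ => List ℕ) x (fun j _ => ih j) i) l

/-- zero iff the lists are equal -/
noncomputable def eqL (l : List ℕ) : List ℕ → ℕ :=
  List.rec (motive := fun _ => List ℕ → ℕ) (fun m => List.rec (motive := fun _ => ℕ) 0 (fun _ _ _ => 1) m)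
    (fun a _ ih m => List.rec (motive := fun _ => ℕ) 1 (fun b m' _ => Nat.add (Nat.xor a b) (ih m')) m) l

theorem eq_of_eqL {l m : List ℕ} (h : eqL l m = 0) : l = m := by
  induction l generalizing m with
  | nil => cases m; exacts [rfl, absurd h one_ne_zero]
  | cons a l ih =>
    cases m with
    | nil => exact absurd h one_ne_zero
    | cons b m => rw [xor_eq_zero' (add_eq_zero_iff'.1 h).1, ih (add_eq_zero_iff'.1 h).2]

theorem andZ_spec {a b v : ℕ} (h : andZ a b = v) (hv : v ≠ 0) : a = 0 ∧ b = v := by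
  rw [andZ_eq] at h
  split_ifs at h with h1
  exacts [⟨h1, h⟩, absurd h.symm hv]

/-- letters, a table of hints, and the rules -/
structure Dat where
  cs : List ℕ
  T : ℕ
  R₀ : ℕ
  Ls : List (List ℕ)
  Rs : List (List ℕ)

/-- lifts of the letters and tails of the rules -/
structure Ok (π : E →* P24) (Rep : Finset GolayPt → E → Prop) (D : Dat) (σ : ℕ → E) (W : ℕ → Finset GolayPt) :
    Prop where
  hσ : ∀ a, pc (π (σ a)) = nthL (idP 24 5) D.cs a
  hW : ∀ i < D.R₀, ∃ n, Rep (W i) n ∧ ev σ (nthW D.Ls i) = ev σ (nthW D.Rs i) * n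

/-- collection from the right -/
noncomputable def coll (D : Dat) (fuel : ℕ) : List (ℕ × ℕ) → ℕ → List ℕ → List (ℕ × ℕ) →
    (List (ℕ × ℕ) → List (ℕ × ℕ) → ℕ) → ℕ :=
  Nat.rec (motive := fun _ => List (ℕ × ℕ) → ℕ → List ℕ → List (ℕ × ℕ) → (List (ℕ × ℕ) → List (ℕ × ℕ) → ℕ) → ℕ)
    (fun _ _ _ _ _ => 0)
    (fun _ ih st cur inp acc k => List.rec (motive := fun _ => ℕ) (k st acc) (fun a rest _ =>
      Nat.rec (motive := fun _ => ℕ)
        (force (mul (nthL (idP 24 5) D.cs a) cur) fun c => ih ((a, cur) :: st) c rest acc k)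
        (fun i _ => List.rec (motive := fun _ => ℕ) 0 (fun top st' _ =>
          andZ (Nat.add (eqL (nthW D.Ls i) [a, top.1]) (Nat.sub (Nat.succ i) D.R₀))
            (force (mat top.2) fun M => ih st' top.2 ((nthW D.Rs i).reverse ++ rest) ((M, i) :: acc) k)) st)
        (List.rec (motive := fun _ => ℕ) 0 (fun top _ _ => get 8 D.T (Nat.add (Nat.mul 16 a) top.1)) st)) inp) fuel

/-- the codes stored in the stack are those of the suffixes -/
def GoodS (π : E →* P24) (σ : ℕ → E) (b : E) : List (ℕ × ℕ) → ℕ → Prop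
  | [], c => c = pc (π b)
  | x :: st, c => c = pc (π (σ x.1 * (ev σ (st.map Prod.fst) * b))) ∧ GoodS π σ b st x.2

theorem GoodS.eq {σ : ℕ → E} {b : E} {st : List (ℕ × ℕ)} {c : ℕ} (h : GoodS π σ b st c) :
    c = pc (π (ev σ (st.map Prod.fst) * b)) := by
  cases st with
  | nil => rw [List.map_nil, ev_nil, one_mul]; exact h
  | cons x st => rw [List.map_cons, ev_cons, mul_assoc]; exact h.1

variable {D : Dat} {σ : ℕ → E}

theorem coll_spec (X : Ext π Rep Z U) (h : Ok π Rep D σ W) (hR : D.R₀ ≤ R) (b : E) {v : ℕ} (hv : v ≠ 0)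
    {k : List (ℕ × ℕ) → List (ℕ × ℕ) → ℕ} (fuel : ℕ) : ∀ {st cur inp acc}, GoodS π σ b st cur →
    coll D fuel st cur inp acc k = v → ∃ st' acc', k st' acc' = v ∧
      Step Rep W R acc acc' (ev σ inp.reverse * (ev σ (st.map Prod.fst) * b)) (ev σ (st'.map Prod.fst) * b) := by
  induction fuel with
  | zero => exact fun _ e => absurd e.symm hv
  | succ fuel ih =>
    intro st cur inp acc hg e
    cases inp with
    | nil => exact ⟨st, acc, e, by simpa using Step.refl X⟩
    | cons a rest =>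
      change Nat.rec (motive := fun _ => ℕ)
        (force (mul (nthL (idP 24 5) D.cs a) cur) fun c => coll D fuel ((a, cur) :: st) c rest acc k)
        (fun i _ => List.rec (motive := fun _ => ℕ) 0 (fun top st' _ =>
          andZ (Nat.add (eqL (nthW D.Ls i) [a, top.1]) (Nat.sub (Nat.succ i) D.R₀))
            (force (mat top.2) fun M => coll D fuel st' top.2 ((nthW D.Rs i).reverse ++ rest) ((M, i) :: acc) k)) st)
        _ = v at e
      generalize List.rec (motive := fun _ => ℕ) 0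
        (fun top _ _ => get 8 D.T (Nat.add (Nat.mul 16 a) top.1)) st = j at e
      rw [List.reverse_cons, ev_append, ev_single, mul_assoc]
      cases j with
      | zero =>
        obtain ⟨st', acc', h1, h2⟩ := ih (st := (a, cur) :: st) ⟨by rw [← h.hσ, hg.eq, mul_pc, map_mul π (σ a)], hg⟩
          ((force_eq _ _).symm.trans e)
        exact ⟨st', acc', h1, by simpa only [List.map_cons, ev_cons, mul_assoc] using h2⟩
      | succ i =>
        cases st with
        | nil => exact absurd e.symm hv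
        | cons top st =>
          obtain ⟨e1, e2⟩ := andZ_spec e hv
          obtain ⟨n, h1, h2⟩ := h.hW i (Nat.sub_eq_zero_iff_le.1 (add_eq_zero_iff'.1 e1).2)
          obtain ⟨st', acc', h3, h4⟩ := ih hg.2 ((force_eq _ _).symm.trans e2)
          refine ⟨st', acc', h3, Step.trans X ?_ h4⟩
          rw [eq_of_eqL (add_eq_zero_iff'.1 e1).1, ev_cons, ev_single] at h2
          rw [List.reverse_append, List.reverse_reverse, ev_append, mul_assoc, List.map_cons, ev_cons, mul_assoc,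
            ← mul_assoc (σ a), h2, hg.2.eq]
          exact (Step.rule X ((Nat.sub_eq_zero_iff_le.1 (add_eq_zero_iff'.1 e1).2).trans hR) h1 _ _).left _

theorem Ok.pc_ev (h : Ok π Rep D σ W) (w : List ℕ) : pc (π (ev σ w)) = evalW 24 5 D.cs w := by
  induction w with
  | nil => rw [ev_nil, map_one]; exact gE.idP_eq.symm
  | cons i w ih =>
    have e1 : evalW 24 5 D.cs (i :: w) =
      force (evalW 24 5 D.cs w) fun y => mulP 24 5 (nthL (idP 24 5) D.cs i) y := rfl
    rw [e1, force_eq, ← ih, ← h.hσ, ev_cons, map_mul]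
    exact (mul_pc _ _).symm

/-- a path of collections, each run forwards or backwards -/
noncomputable def jobs (D : Dat) (js : List (List ℕ × List ℕ × ℕ)) :
    List ℕ → List (ℕ × ℕ) → (List ℕ → List (ℕ × ℕ) → ℕ) → ℕ :=
  List.rec (motive := fun _ => List ℕ → List (ℕ × ℕ) → (List ℕ → List (ℕ × ℕ) → ℕ) → ℕ) (fun cur acc k => k cur acc)
    (fun j _ ih cur acc k => force (evalW 24 5 D.cs j.1) fun c => coll D 100 [] c j.2.1.reverse acc fun st acc' =>
      Nat.rec (motive := fun _ => ℕ) (andZ (eqL cur (j.2.1 ++ j.1)) (ih (st.map Prod.fst ++ j.1) acc' k))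
        (fun _ _ => andZ (eqL cur (st.map Prod.fst ++ j.1)) (ih (j.2.1 ++ j.1) acc' k)) j.2.2) js

theorem jobs_spec (X : Ext π Rep Z U) (h : Ok π Rep D σ W) (hR : D.R₀ ≤ R) {v : ℕ} (hv : v ≠ 0)
    {k : List ℕ → List (ℕ × ℕ) → ℕ} (js : List (List ℕ × List ℕ × ℕ)) : ∀ {cur acc}, jobs D js cur acc k = v →
    ∃ cur' acc', k cur' acc' = v ∧ Step Rep W R acc acc' (ev σ cur) (ev σ cur') := by
  induction js with
  | nil => exact fun e => ⟨_, _, e, Step.refl X⟩
  | cons j js ih =>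
    intro cur acc e
    obtain ⟨b, w, d⟩ := j
    change force (evalW 24 5 D.cs b) (fun c => coll D 100 [] c w.reverse acc _) = v at e
    rw [force_eq] at e
    obtain ⟨st, acc', h1, h2⟩ := coll_spec X h hR (ev σ b) hv 100 (st := []) (h.pc_ev b).symm e
    rw [List.reverse_reverse, List.map_nil, ev_nil, one_mul, ← ev_append, ← ev_append] at h2
    cases d with
    | zero =>
      obtain ⟨e1, e2⟩ := andZ_spec h1 hv
      obtain ⟨cur', acc'', h3, h4⟩ := ih e2
      exact ⟨cur', acc'', h3, eq_of_eqL e1 ▸ h2.trans X h4⟩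
    | succ d =>
      obtain ⟨e1, e2⟩ := andZ_spec h1 hv
      obtain ⟨cur', acc'', h3, h4⟩ := ih e2
      exact ⟨cur', acc'', h3, eq_of_eqL e1 ▸ (h2.symm X).trans X h4⟩

/-- the equations given by closed paths -/
noncomputable def syzs (D : Dat) (zs : List (List ℕ × List (List ℕ × List ℕ × ℕ) × List ℕ)) :
    List ℕ → (List ℕ → ℕ) → ℕ :=
  List.rec (motive := fun _ => List ℕ → (List ℕ → ℕ) → ℕ) (fun Q k => k Q)
    (fun z _ ih Q k => jobs D z.2.1 z.1 [] fun cur acc =>
      andZ (eqL z.1 cur) (forceL (mapL (form acc) z.2.2) fun L => ih (L ++ Q) k)) zs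

theorem syzs_spec (X : Ext π Rep Z U) (hU : ∀ u ∈ U, u < 2 ^ 24) (h : Ok π Rep D σ W) (hR : D.R₀ ≤ R) {v : ℕ}
    (hv : v ≠ 0) {k : List ℕ → ℕ} (zs : List (List ℕ × List (List ℕ × List ℕ × ℕ) × List ℕ))
    (hz : ∀ z ∈ zs, ∀ u ∈ z.2.2, u ∈ U) : ∀ {Q}, (∀ f ∈ Q, evF W R f = 0) → syzs D zs Q k = v →
    ∃ Q', k Q' = v ∧ ∀ f ∈ Q', evF W R f = 0 := by
  induction zs with
  | nil => exact fun hQ e => ⟨_, e, hQ⟩
  | cons z zs ih =>
    intro Q hQ e
    obtain ⟨cur, acc, h1, h2⟩ := jobs_spec X h hR hv _ e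
    obtain ⟨e1, e2⟩ := andZ_spec h1 hv
    refine ih (fun z hz' => hz z (List.mem_cons_of_mem _ hz')) (fun f hf => ?_) ((forceL_eq _ _).symm.trans e2)
    rcases List.mem_append.1 hf with hf | hf
    · obtain ⟨u, hu, rfl⟩ := List.mem_map.1 (mapL_eq _ _ ▸ hf)
      exact (h2.eq_iff X hU).1 (by rw [eq_of_eqL e1]) u (hz z List.mem_cons_self u hu)
    · exact hQ f hf

end Cfsg.Agent.Golay
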