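import Mathlib
import Cfsg.Agent.Golay.Tail
import Cfsg.Agent.H2.Gaschutz

/-!
Certificates for the splitting of an extension over a subgroup given by a polycyclic presentation.
-/

set_option autoImplicit false

namespace Cfsg.Agent.Golay

open Cfsg.Agent.Comp Finset
open scoped Pointwise symmDiff

variable {W : ℕ → Finset GolayPt} {R : ℕ} {E : Type*} [Group E] {π : E →* P24}
  {Rep : Finset GolayPt → E → Prop} {Z U : List ℕ} {D : Dat} {σ : ℕ → E}

/-- the change of the value of a word when the lifts are changed -/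
noncomputable def fox (D : Dat) (w : List ℕ) : List (ℕ × ℕ) → (ℕ → List (ℕ × ℕ) → ℕ) → ℕ :=
  List.rec (motive := fun _ => List (ℕ × ℕ) → (ℕ → List (ℕ × ℕ) → ℕ) → ℕ) (fun acc k => k one acc)
    (fun a _ ih acc k => ih acc fun c acc' => force (mat c) fun M =>
      force (mul (nthL (idP 24 5) D.cs a) c) fun c' => k c' ((M, Nat.add D.R₀ a) :: acc')) w

theorem fox_spec (X : Ext π Rep Z U) (h : Ok π Rep D σ W) {n : ℕ → E} (w : List ℕ)
    (hw : ∀ a ∈ w, D.R₀ + a < R ∧ Rep (W (D.R₀ + a)) (n a)) : ∀ acc k, ∃ acc',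
    fox D w acc k = k (pc (π (ev σ w))) acc' ∧ Step Rep W R acc acc' (ev (fun a => σ a * n a) w) (ev σ w) := by
  induction w with
  | nil => exact fun acc k => ⟨acc, by rw [ev_nil, map_one, pc_one]; rfl, Step.refl X⟩
  | cons a w ih =>
    intro acc k
    obtain ⟨acc', h1, h2⟩ := ih (fun b hb => hw b (List.mem_cons_of_mem _ hb)) acc fun c acc' =>
      force (mat c) fun M => force (mul (nthL (idP 24 5) D.cs a) c) fun c' => k c' ((M, Nat.add D.R₀ a) :: acc')
    obtain ⟨h3, h4⟩ := hw a List.mem_cons_self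
    refine ⟨_, h1.trans ?_, (h2.left _).trans X (Step.rule X h3 h4 (σ a) _)⟩
    rw [force_eq, force_eq, ← h.hσ, mul_pc, ev_cons, map_mul]
    rfl

/-- the form of a combination of basis vectors at a functional -/
noncomputable def sel (u : ℕ) (L : List (ℕ × ℕ)) : ℕ :=
  List.rec (motive := fun _ => ℕ) 0
    (fun x _ ih => Nat.xor (Nat.mul x.2 (Nat.mod (pop 24 (Nat.land u x.1)) 2)) ih) L

/-- a combination of basis vectors -/
def comV (e : ℕ → ZMod 2) : List (ℕ × ℕ) → Finset GolayPt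
  | [] => ∅
  | x :: L => (if e x.2 = 0 then ∅ else um x.1) ∆ comV e L

theorem ip_comV {e : ℕ → ZMod 2} {u : ℕ} (hu : u < 2 ^ 24) (L : List (ℕ × ℕ))
    (hL : ∀ x ∈ L, x.1 < 2 ^ 24 ∧ evF W R x.2 = e x.2) : evF W R (sel u L) = ip (um u) (comV e L) := by
  induction L with
  | nil => rw [comV, ip_empty']; exact evF_zero
  | cons x L ih =>
    obtain ⟨h1, h2⟩ := hL x List.mem_cons_self
    change evF W R (Nat.xor (Nat.mul x.2 (Nat.mod (pop 24 (Nat.land u x.1)) 2)) (sel u L)) = _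
    rw [evF_xor, evF_mul, comV, ip_symmDiff', ih fun y hy => hL y (List.mem_cons_of_mem _ hy), h2, ← ip_um hu h1]
    rcases zmod2_cases (e x.2) with h | h <;> simp [h, ip_empty']

/-- elimination of the unknown changes of the lifts -/
noncomputable def sub (LL : List (List (ℕ × ℕ))) : ℕ → ℕ → ℕ :=
  List.rec (motive := fun _ => ℕ → ℕ → ℕ) (fun _ F => F) (fun L _ ih ρ F => force (get 24 F ρ) fun u =>
    force (Nat.xor F (Nat.xor (Nat.shiftLeft u (Nat.mul 24 ρ)) (sel u L))) (ih (Nat.succ ρ))) LL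

theorem evF_sub (LL : List (List (ℕ × ℕ))) : ∀ ρ F, (∀ a < LL.length, ρ + a < R ∧ ∀ u < 2 ^ 24,
    evF W R (sel u (LL.getD a [])) = ip (um u) (W (ρ + a))) → evF W R (sub LL ρ F) = evF W R F := by
  induction LL with
  | nil => exact fun _ _ _ => rfl
  | cons L LL ih =>
    intro ρ F h
    change evF W R (force (get 24 F ρ) fun u =>
      force (Nat.xor F (Nat.xor (Nat.shiftLeft u (Nat.mul 24 ρ)) (sel u L))) (sub LL (Nat.succ ρ))) = _
    obtain ⟨h1, h2⟩ := h 0 (Nat.succ_pos _)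
    rw [force_eq, force_eq, ih _ _ fun a ha => Nat.succ_add ρ a ▸ h (a + 1) (Nat.succ_lt_succ ha), evF_xor, evF_xor,
      evF_shift (get_lt _ _ _) (show ρ < R from h1), show evF W R (sel _ L) = ip _ (W ρ) from h2 _ (get_lt _ _ _),
      CharTwo.add_self_eq_zero, add_zero]

/-- `f` shifted, with low digits depending on `f` -/
noncomputable def salt (f : ℕ) : ℕ := Nat.add (Nat.shiftLeft f 64) (Nat.mod f 2305843009213693951)

theorem salt_shift (f : ℕ) : Nat.shiftRight (salt f) 64 = f := by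
  change (f <<< 64 + f % 2305843009213693951) >>> 64 = f
  rw [Nat.shiftRight_eq_div_pow, Nat.shiftLeft_eq]
  omega

/-- `r` plus the equations selected by a mask -/
noncomputable def comb (m : ℕ) (Q : List ℕ) : ℕ → ℕ → ℕ :=
  List.rec (motive := fun _ => ℕ → ℕ → ℕ) (fun _ r => r) (fun f _ ih k r =>
    force (Nat.succ k) fun k' => Nat.rec (motive := fun _ => ℕ) (ih k' r)
      (fun _ _ => force (Nat.xor r f) (ih k')) (Nat.land (Nat.shiftRight m k) 1)) Q

theorem evF_comb (m : ℕ) (Q : List ℕ) (hQ : ∀ f ∈ Q, evF W R (Nat.shiftRight f 64) = 0) :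
    ∀ k r, evF W R (Nat.shiftRight (comb m Q k r) 64) = evF W R (Nat.shiftRight r 64) := by
  induction Q with
  | nil => exact fun _ _ => rfl
  | cons f Q ih =>
    intro k r
    replace ih := ih fun g hg => hQ g (List.mem_cons_of_mem _ hg)
    change evF W R (Nat.shiftRight (force (Nat.succ k) fun k' => Nat.rec (motive := fun _ => ℕ) (comb m Q k' r)
      (fun _ _ => force (Nat.xor r f) (comb m Q k')) (Nat.land (Nat.shiftRight m k) 1)) 64) = _
    rw [force_eq]
    cases Nat.land (Nat.shiftRight m k) 1 with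
    | zero => exact ih _ _
    | succ j =>
      change evF W R (Nat.shiftRight (force (Nat.xor r f) (comb m Q _)) 64) = _
      rw [force_eq, ih, show Nat.shiftRight (Nat.xor r f) 64 = Nat.xor _ _ from Nat.shiftRight_xor_distrib, evF_xor]
      exact add_eq_left.2 (hQ f List.mem_cons_self)

/-- zero if the values of `f` on `U` are the combinations given by the masks -/
noncomputable def chkU (f : ℕ → ℕ) (Q U : List ℕ) : List ℕ → ℕ :=
  List.rec (motive := fun _ => List ℕ → ℕ) (fun _ => 0) (fun u _ ih ms => List.rec (motive := fun _ => ℕ) 1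
    (fun m ms' _ => Nat.add (force (f u) fun r => Nat.shiftRight (force (salt r) (comb m Q 16)) 64) (ih ms')) ms) U

theorem chkU_spec {f : ℕ → ℕ} {Q : List ℕ} (hQ : ∀ f ∈ Q, evF W R (Nat.shiftRight f 64) = 0) (U : List ℕ) :
    ∀ ms, chkU f Q U ms = 0 → ∀ u ∈ U, evF W R (f u) = 0 := by
  induction U with
  | nil => exact fun _ _ _ h => absurd h List.not_mem_nil
  | cons u U ih =>
    intro ms h
    cases ms with
    | nil => exact absurd h one_ne_zero
    | cons m ms =>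
      obtain ⟨h1, h2⟩ := add_eq_zero_iff'.1 h
      refine List.forall_mem_cons.2 ⟨?_, ih ms h2⟩
      rw [force_eq, force_eq] at h1
      rw [← salt_shift (f u), ← evF_comb m Q hQ 16, h1, evF_zero]

/-- the rules hold for the changed lifts -/
noncomputable def tgts (D : Dat) (LL : List (List (ℕ × ℕ))) (U Q : List ℕ) (Cs : List (List ℕ)) : ℕ → ℕ :=
  List.rec (motive := fun _ => ℕ → ℕ) (fun _ => 1) (fun ms _ ih i =>
    fox D (nthW D.Ls i) [] fun _ acc => force (mat one) fun M => fox D (nthW D.Rs i) ((M, i) :: acc) fun _ acc' =>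
      andZ (chkU (fun u => sub LL D.R₀ (form acc' u)) Q U ms) (ih (Nat.succ i))) Cs

theorem tgts_spec (X : Ext π Rep Z U) (hU : ∀ u ∈ U, u < 2 ^ 24) (h : Ok π Rep D σ W) (hR : D.R₀ ≤ R) {n : ℕ → E}
    {LL : List (List (ℕ × ℕ))} (hL : ∀ F, evF W R (sub LL D.R₀ F) = evF W R F) {Q : List ℕ}
    (hQ : ∀ f ∈ Q, evF W R (Nat.shiftRight f 64) = 0) (Cs : List (List ℕ)) : ∀ i, tgts D LL U Q Cs i ≠ 0 → ∀ j < Cs.length,
    (∀ j' ≤ j, i + j' < D.R₀ ∧ ∀ a ∈ nthW D.Ls (i + j') ++ nthW D.Rs (i + j'),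
      D.R₀ + a < R ∧ Rep (W (D.R₀ + a)) (n a)) →
    ev (fun a => σ a * n a) (nthW D.Ls (i + j)) = ev (fun a => σ a * n a) (nthW D.Rs (i + j)) := by
  induction Cs with
  | nil => exact fun _ _ _ h => absurd h (Nat.not_lt_zero _)
  | cons ms Cs ih =>
    intro i e j hj hw
    obtain ⟨h1, h2⟩ := hw 0 (Nat.zero_le _)
    change fox D (nthW D.Ls i) [] (fun _ acc => force (mat one) fun M => fox D (nthW D.Rs i) ((M, i) :: acc)
      fun _ acc' => andZ (chkU (fun u => sub LL D.R₀ (form acc' u)) Q U ms) (tgts D LL U Q Cs (Nat.succ i))) ≠ 0 at e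
    obtain ⟨acc, h3, h4⟩ := fox_spec X h (nthW D.Ls i) (fun a ha => h2 a (List.mem_append_left _ ha)) [] _
    rw [h3, force_eq] at e
    obtain ⟨acc', h5, h6⟩ := fox_spec X h (nthW D.Rs i) (fun a ha => h2 a (List.mem_append_right _ ha))
      ((mat one, i) :: acc) _
    rw [h5] at e
    obtain ⟨e1, e2⟩ := andZ_spec rfl e
    cases j with
    | zero =>
      obtain ⟨m, h7, h8⟩ := h.hW i h1
      have h9 := Step.rule (acc := acc) X (h1.trans_le hR) h7 (ev σ (nthW D.Rs i)) 1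
      rw [map_one, pc_one, mul_one, mul_one, ← h8] at h9
      exact (((h4.trans X h9).trans X (h6.symm X)).eq_iff X hU).2 fun u hu =>
        (hL _).symm.trans (chkU_spec hQ U ms e1 u hu)
    | succ j =>
      have := ih (i + 1) (e2 ▸ e) j (Nat.lt_of_succ_lt_succ hj) fun j' hj' => by
        simpa only [Nat.add_right_comm i 1, ← Nat.add_assoc] using hw (j' + 1) (Nat.succ_le_succ hj')
      simpa only [Nat.add_right_comm i 1, ← Nat.add_assoc] using this

/-- the whole check -/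
noncomputable def chk (D : Dat) (zs : List (List ℕ × List (List ℕ × List ℕ × ℕ) × List ℕ))
    (LL : List (List (ℕ × ℕ))) (Z U Lam : List ℕ) (Cs : List (List ℕ)) : ℕ :=
  forceL (Lam ++ (List.range D.R₀).flatMap fun ρ => Z.map fun z => Nat.shiftLeft z (Nat.mul 24 ρ)) fun Q =>
    syzs D zs Q fun Q' => forceL (mapL salt Q') fun Q'' => tgts D LL U Q'' Cs 0

theorem exists_sat (X : Ext π Rep Z U) (h : Ok π Rep D σ W) {zs : List (List ℕ × List (List ℕ × List ℕ × ℕ) × List ℕ)}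
    {LL : List (List (ℕ × ℕ))} {Lam : List ℕ} {Cs : List (List ℕ)} (hc : chk D zs LL Z U Lam Cs = 1)
    (hU : ∀ u ∈ Z ++ U, u < 2 ^ 24) (hz : ∀ z ∈ zs, ∀ u ∈ z.2.2, u ∈ U)
    (hL : ∀ L ∈ LL, (∀ x ∈ L, x.1 < 2 ^ 24 ∧ x.2 < 2 ^ (24 * D.R₀)) ∧ ∀ z ∈ Z, sel z L = 0)
    (hw : ∀ i < Cs.length, i < D.R₀ ∧ ∀ a ∈ nthW D.Ls i ++ nthW D.Rs i, a < LL.length)
    (hl : ∀ f ∈ Lam, f < 2 ^ (24 * D.R₀) ∧ evF W D.R₀ f = 0) :
    ∃ τ : ℕ → E, (∀ a, π (τ a) = π (σ a)) ∧ ∀ i < Cs.length, ev τ (nthW D.Ls i) = ev τ (nthW D.Rs i) := by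
  let W' : ℕ → Finset GolayPt := fun ρ => if ρ < D.R₀ then W ρ else comV (evF W D.R₀) (LL.getD (ρ - D.R₀) [])
  have hR : D.R₀ ≤ D.R₀ + LL.length := Nat.le_add_right _ _
  have h1 : ∀ ρ < D.R₀, W' ρ = W ρ := fun ρ hρ => if_pos hρ
  have h2 : ∀ a < LL.length, LL.getD a [] ∈ LL := fun a ha => by
    rw [List.getD_eq_getElem _ _ ha]; exact List.getElem_mem ha
  have h3 : ∀ a < LL.length, ∀ u < 2 ^ 24, evF W' (D.R₀ + LL.length) (sel u (LL.getD a [])) =
      ip (um u) (W' (D.R₀ + a)) := fun a ha u hu => by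
    rw [ip_comV hu _ fun x hx => ⟨((hL _ (h2 a ha)).1 x hx).1, evF_congr hR h1 ((hL _ (h2 a ha)).1 x hx).2⟩]
    simp [W']
  have h4 : ∀ a, ∃ n, π n = 1 ∧ (a < LL.length → Rep (W' (D.R₀ + a)) n) := fun a => by
    by_cases ha : a < LL.length
    · obtain ⟨n, hn⟩ := X.hS (s := W' (D.R₀ + a)) fun z hz => by
        rw [← h3 a ha z (hU z (List.mem_append_left _ hz)), (hL _ (h2 a ha)).2 z hz, evF_zero]
      exact ⟨n, X.ker hn, fun _ => hn⟩
    · exact ⟨1, map_one π, fun h => absurd h ha⟩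
  choose n h4 h5 using h4
  have h' : Ok π Rep D σ W' := ⟨h.hσ, fun i hi => h1 i hi ▸ h.hW i hi⟩
  have hU' : ∀ u ∈ U, u < 2 ^ 24 := fun u hu => hU u (List.mem_append_right _ hu)
  obtain ⟨Q, h6, h7⟩ := syzs_spec X hU' h' hR one_ne_zero zs hz (fun f hf => by
    rcases List.mem_append.1 hf with hf | hf
    · rw [evF_congr hR h1 (hl f hf).1, (hl f hf).2]
    · obtain ⟨ρ, hρ, hf⟩ := List.mem_flatMap.1 hf
      obtain ⟨z, hz, rfl⟩ := List.mem_map.1 hf
      obtain ⟨m, hm, -⟩ := h'.hW ρ (List.mem_range.1 hρ)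
      rw [evF_shift (hU z (List.mem_append_left _ hz)) ((List.mem_range.1 hρ).trans_le hR), X.hZ hm z hz])
    ((forceL_eq _ _).symm.trans hc)
  refine ⟨fun a => σ a * n a, fun a => by rw [map_mul, h4, mul_one], fun i hi => ?_⟩
  rw [forceL_eq, mapL_eq] at h6
  simpa only [zero_add] using tgts_spec X hU' h' hR
    (fun F => evF_sub LL _ F fun a ha => ⟨Nat.add_lt_add_left ha _, h3 a ha⟩)
    (List.forall_mem_map.2 fun f hf => by rw [salt_shift, h7 f hf]) Cs 0 (h6 ▸ one_ne_zero) i hi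
    fun j hj => by
      obtain ⟨a1, a2⟩ := hw j (hj.trans_lt hi)
      simpa only [zero_add] using ⟨a1, fun a ha => ⟨Nat.add_lt_add_left (a2 a ha) _, h5 a (a2 a ha)⟩⟩

theorem exists_ok (X : Ext π Rep Z U) (hin : In pc π.range D.cs)
    (h : ∀ i < D.R₀, evalW 24 5 D.cs (nthW D.Ls i) = evalW 24 5 D.cs (nthW D.Rs i)) : ∃ σ W, Ok π Rep D σ W := by
  obtain ⟨s, h1, -⟩ := hin.exists_letters
  choose σ hσ using fun a => (s a).2
  have h2 : Ok π Rep { D with R₀ := 0 } σ fun _ => ∅ := ⟨fun a => by rw [hσ, h1], fun i hi => absurd hi (by simp)⟩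
  have h3 : ∀ i, ∃ w, i < D.R₀ → ∃ n, Rep w n ∧ ev σ (nthW D.Ls i) = ev σ (nthW D.Rs i) * n := fun i => by
    by_cases hi : i < D.R₀
    · obtain ⟨w, hw⟩ := X.ex (n := (ev σ (nthW D.Rs i))⁻¹ * ev σ (nthW D.Ls i)) (by
        rw [map_mul, map_inv, inv_mul_eq_one, ← pc_inj, h2.pc_ev, h2.pc_ev, h i hi])
      exact ⟨w, fun _ => ⟨_, hw, (mul_inv_cancel_left _ _).symm⟩⟩
    · exact ⟨∅, fun h => absurd h hi⟩
  choose W hW using h3
  exact ⟨σ, W, h2.hσ, hW⟩

/-! ### polycyclic presentations -/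

theorem card_closure_insert {G : Type*} [Group G] [Finite G] {S : Set G} {x : G}
    (h1 : x * x ∈ Subgroup.closure S) (h2 : ∀ s ∈ S, x⁻¹ * s * x ∈ Subgroup.closure S) :
    Nat.card (Subgroup.closure (insert x S)) ≤ 2 * Nat.card (Subgroup.closure S) := by
  have h3 : ∀ g ∈ Subgroup.closure S, x⁻¹ * g * x ∈ Subgroup.closure S := fun g hg =>
    (Subgroup.closure_le ((Subgroup.closure S).comap (MulAut.conj x⁻¹).toMonoidHom)).2
      (fun s hs => by simpa using h2 s hs) hg |> fun h => by simpa using h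
  generalize hK : Subgroup.closure S = K at h1 h3
  let K' : Subgroup G :=
    { carrier := K ∪ x • (K : Set G)
      one_mem' := Or.inl K.one_mem
      mul_mem' := by
        simp only [Set.mem_union, Set.mem_smul_set_iff_inv_smul_mem, smul_eq_mul, SetLike.mem_coe]
        rintro a b (ha | ha) (hb | hb)
        · exact Or.inl (K.mul_mem ha hb)
        · exact Or.inr (by convert K.mul_mem (h3 a ha) hb using 1; group)
        · exact Or.inr (mul_assoc x⁻¹ a b ▸ K.mul_mem ha hb)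
        · exact Or.inl (by convert K.mul_mem h1 (K.mul_mem (h3 _ ha) hb) using 1; group)
      inv_mem' := by
        simp only [Set.mem_union, Set.mem_smul_set_iff_inv_smul_mem, smul_eq_mul, SetLike.mem_coe]
        rintro a (ha | ha)
        · exact Or.inl (K.inv_mem ha)
        · exact Or.inr (by convert K.mul_mem (h3 _ (K.inv_mem ha)) (K.inv_mem (K.mul_mem h1 K.one_mem)) using 1; group) }
  refine (Subgroup.card_le_of_le ((Subgroup.closure_le K').2 ?_)).trans ?_
  · rintro s (rfl | hs)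
    · exact Or.inr ⟨1, K.one_mem, mul_one s⟩
    · exact Or.inl (hK ▸ Subgroup.subset_closure hs)
  · refine (Set.ncard_union_le (K : Set G) _).trans ?_
    rw [Set.ncard_smul_set, two_mul]
    rfl

theorem card_closure_pc {G : Type*} [Group G] [Finite G] (s : ℕ → G) (k : ℕ)
    (h : ∀ i < k, ∀ j < k, i ≤ j → ∃ w, (∀ a ∈ w, i < a ∧ a < k) ∧
      s j * s i = ev s ((if i = j then [] else [i]) ++ w)) :
    ∀ m ≤ k, Nat.card (Subgroup.closure (s '' Set.Ico (k - m) k)) ≤ 2 ^ m := by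
  intro m
  induction m with
  | zero => simp
  | succ m ih =>
    intro hm
    have h1 : ∀ w : List ℕ, (∀ a ∈ w, k - (m + 1) < a ∧ a < k) → ev s w ∈ Subgroup.closure (s '' Set.Ico (k - m) k) :=
      fun w hw => ev_mem fun a ha => Subgroup.subset_closure ⟨a, ⟨by have := (hw a ha).1; omega, (hw a ha).2⟩, rfl⟩
    rw [← Set.insert_Ico_add_one_left_eq_Ico (by omega), Set.image_insert_eq, show k - (m + 1) + 1 = k - m by omega,
      pow_succ']
    refine (card_closure_insert ?_ ?_).trans (Nat.mul_le_mul_left _ (ih (by omega)))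
    · obtain ⟨w, h2, h3⟩ := h (k - (m + 1)) (by omega) _ (by omega) le_rfl
      rw [h3, if_pos rfl]
      exact h1 w h2
    · rintro _ ⟨j, hj, rfl⟩
      have := hj.1
      obtain ⟨w, h2, h3⟩ := h (k - (m + 1)) (by omega) j hj.2 (by omega)
      rw [mul_assoc, h3, if_neg (by omega), ev_append, ev_single, inv_mul_cancel_left]
      exact h1 w h2

theorem exists_compl [Finite E] (X : Ext π Rep Z U) {A : Subgroup E} {S : Subgroup P24} (hS : S ≤ A.map π)
    (hA : Nat.card A ≤ Nat.card S) (hi : Odd (S.relIndex π.range)) : ∃ H : Subgroup E, Subgroup.IsComplement' π.ker H := by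
  have h1 : ∀ n ∈ π.ker, n * n = 1 := fun n hn => (X.ex hn).elim fun _ h => X.sq h
  have := Fact.mk Nat.prime_two
  obtain ⟨k, hk⟩ := IsPGroup.iff_card.1 (show IsPGroup 2 π.ker from fun n => ⟨1, Subtype.ext (by
    simpa [sq] using h1 n n.2)⟩)
  refine H2.gaschutz_exists π.ker (π.ker ⊔ A) ⟨⟨fun a b => Subtype.ext ?_⟩⟩ le_sup_left ?_ A ?_ rfl
  · have h2 := h1 _ (a * b).2
    rw [← mul_eq_one_iff_eq_inv.1 h2 |>.symm, Subgroup.coe_mul, mul_inv_rev, ← mul_eq_one_iff_eq_inv.1 (h1 _ a.2),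
      ← mul_eq_one_iff_eq_inv.1 (h1 _ b.2), Subgroup.coe_mul]
  · rw [hk, sup_comm, ← Subgroup.comap_map_eq, Subgroup.index_comap]
    exact (Nat.coprime_two_left.2 (hi.of_dvd_nat (Subgroup.relIndex_dvd_of_le_left _ hS))).pow_left k
  · have h2 := (π.comp A.subtype).ker.card_mul_index
    rw [Subgroup.index_ker, MonoidHom.range_comp, Subgroup.range_subtype] at h2
    have h3 := Subgroup.card_le_of_le hS
    have h4 : (π.comp A.subtype).ker = ⊥ := Subgroup.card_le_one_iff_eq_bot _ |>.1 (by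
      by_contra h
      have := Nat.card_pos (α := A)
      nlinarith)
    refine Subgroup.disjoint_def.2 fun {g} h5 h6 => ?_
    have : (⟨g, h6⟩ : A) ∈ (π.comp A.subtype).ker := h5
    rw [h4, Subgroup.mem_bot] at this
    exact congrArg Subtype.val this

end Cfsg.Agent.Golay
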