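import Mathlib
import Cfsg.Agent.Golay.Tail2

/-!
The Baer sum of two extensions.
-/

set_option autoImplicit false

namespace Cfsg.Agent.Golay

open Cfsg.Agent.Comp Finset
open scoped Pointwise symmDiff

theorem bij_of_compl {F Q G : Type*} [Group F] [Group Q] [Group G] (f : F →* Q) {K H : Subgroup Q}
    (h : K.IsComplement' H) (q : F →* G) (hq : Function.Surjective q) (h1 : ∀ x, q x = 1 → f x ∈ K)
    (h2 : ∀ x, f x = 1 → q x = 1 → x = 1) (h3 : ∀ y ∈ K, ∃ x, f x = y ∧ q x = 1) :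
    Function.Bijective (q.comp (H.comap f).subtype) := by
  refine ⟨(injective_iff_map_eq_one _).2 fun x hx =>
    Subtype.ext (h2 _ (Subgroup.disjoint_def.1 h.disjoint (h1 _ hx) x.2) hx), fun g => ?_⟩
  obtain ⟨x, rfl⟩ := hq g
  obtain ⟨⟨k, y⟩, h4⟩ := h.2 (f x)
  obtain ⟨z, h5, h6⟩ := h3 k k.2
  refine ⟨⟨z⁻¹ * x, ?_⟩, by simp [h6]⟩
  rw [Subgroup.mem_comap, map_mul, map_inv, h5, ← h4, inv_mul_cancel_left]
  exact y.2

variable {E E' : Type*} [Group E] [Group E'] {π : E →* P24} {π' : E' →* P24} {Rep : Finset GolayPt → E → Prop}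
  {Rep' : Finset GolayPt → E' → Prop} {U : List ℕ} {D : Dat}

theorem evF_symmDiff (W W' : ℕ → Finset GolayPt) (R F : ℕ) :
    evF (fun i => W i ∆ W' i) R F = evF W R F + evF W' R F := by
  simp only [evF, ip_symmDiff', sum_add_distrib]

/-- the fibre product -/
abbrev Fib (π : E →* P24) (π' : E' →* P24) : Subgroup (E × E') :=
  (π.comp (MonoidHom.fst E E')).eqLocus (π'.comp (MonoidHom.snd E E'))

/-- the diagonal of the kernel of the fibre product -/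
def dia (X : Ext π Rep [] U) (X' : Ext π' Rep' [] U) : Subgroup (Fib π π') where
  carrier := {x | ∃ s, Rep s x.1.1 ∧ Rep' s x.1.2}
  one_mem' := ⟨∅, X.zero, X'.zero⟩
  mul_mem' := fun ⟨_, h1, h2⟩ ⟨_, h3, h4⟩ => ⟨_, X.add h1 h3, X'.add h2 h4⟩
  inv_mem' := fun {x} ⟨s, h1, h2⟩ => ⟨s, (eq_inv_of_mul_eq_one_left (X.sq h1) ▸ h1 : Rep s x.1.1⁻¹),
    (eq_inv_of_mul_eq_one_left (X'.sq h2) ▸ h2 : Rep' s x.1.2⁻¹)⟩

theorem dia_normal (X : Ext π Rep [] U) (X' : Ext π' Rep' [] U) : (dia X X').Normal :=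
  ⟨fun _ ⟨_, h1, h2⟩ g => ⟨_, X.conj g.1.1 h1, (show π g.1.1 = π' g.1.2 from g.2) ▸ X'.conj g.1.2 h2⟩⟩

theorem equiv_of_baer [Finite E] [Finite E'] (X : Ext π Rep [] U) (X' : Ext π' Rep' [] U) (hr : π.range = π'.range)
    {σ : ℕ → E} {σ' : ℕ → E'} {W W' : ℕ → Finset GolayPt} (h : Ok π Rep D σ W) (h' : Ok π' Rep' D σ' W')
    (hs : ∀ (Q : Subgroup (Fib π π')) [Q.Normal] (p : Fib π π' ⧸ Q →* P24) R τ, Ext p R [] U → p.range = π.range →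
      Ok p R D τ (fun i => W i ∆ W' i) → ∃ H, p.ker.IsComplement' H) : Nonempty (E ≃* E') := by
  have := dia_normal X X'
  let p : Fib π π' ⧸ dia X X' →* P24 := QuotientGroup.lift _ (π.comp ((MonoidHom.fst E E').comp (Fib π π').subtype))
    fun x ⟨_, h1, _⟩ => X.ker h1
  have hp : ∀ x : Fib π π', p x = π x.1.1 := fun _ => rfl
  have h0 : ∀ s, ∃ n, Rep s n := fun s => X.hS fun _ h => absurd h List.not_mem_nil
  have h1 : ∀ (x : Fib π π') {s t}, Rep s x.1.1 → Rep' t x.1.2 →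
      ∃ y : Fib π π', Rep (s ∆ t) y.1.1 ∧ y.1.2 = 1 ∧ (x : Fib π π' ⧸ dia X X') = y := fun x s t h2 h3 => by
    obtain ⟨m, h4⟩ := h0 t
    refine ⟨x * ⟨(m, x.1.2), (X.ker h4).trans (X'.ker h3).symm⟩, X.add h2 h4, X'.sq h3, QuotientGroup.eq.2 ?_⟩
    rw [inv_mul_cancel_left]
    exact ⟨t, h4, h3⟩
  have Y : Ext p (fun s y => ∃ x : Fib π π', Rep s x.1.1 ∧ x.1.2 = 1 ∧ y = x) [] U :=
    { add := by
        rintro s t _ _ ⟨x, h2, h3, rfl⟩ ⟨y, h4, h5, rfl⟩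
        exact ⟨x * y, X.add h2 h4, by simp [h3, h5], rfl⟩
      conj := by
        rintro s _ ⟨g⟩ ⟨x, h2, h3, rfl⟩
        exact ⟨g * x * g⁻¹, X.conj g.1.1 h2, by simp [h3], rfl⟩
      ex := by
        rintro ⟨x⟩ hx
        obtain ⟨s, h2⟩ := X.ex (n := x.1.1) hx
        obtain ⟨t, h3⟩ := X'.ex (n := x.1.2) ((show π x.1.1 = π' x.1.2 from x.2).symm.trans hx)
        exact ⟨_, h1 x h2 h3⟩
      ker := by
        rintro s _ ⟨x, h2, -, rfl⟩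
        exact X.ker h2
      hZ := fun _ _ h => absurd h List.not_mem_nil
      hS := fun {s} _ => let ⟨n, hn⟩ := h0 s; ⟨_, ⟨(n, 1), (X.ker hn).trans (map_one π').symm⟩, hn, rfl, rfl⟩
      hU := by
        rintro s _ ⟨x, h2, h3, rfl⟩
        rw [QuotientGroup.eq_one_iff, ← X.hU h2]
        exact ⟨fun ⟨t, h4, h5⟩ => (X.hU h4).2 ((X'.hU h5).1 h3), fun h4 => ⟨∅, h4 ▸ X.zero, h3 ▸ X'.zero⟩⟩ }
  have h2 : ∀ g, ∃ x : Fib π π', x.1.1 = g := fun g => let ⟨g', hg⟩ := hr.le ⟨g, rfl⟩; ⟨⟨(g, g'), hg.symm⟩, rfl⟩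
  have h3 : ∀ g, ∃ x : Fib π π', x.1.2 = g := fun g => let ⟨g', hg⟩ := hr.ge ⟨g, rfl⟩; ⟨⟨(g', g), hg⟩, rfl⟩
  let τ : ℕ → Fib π π' := fun a => ⟨(σ a, σ' a), pc_injective ((h.hσ a).trans (h'.hσ a).symm)⟩
  have h4 : ∀ w, (ev τ w).1 = (ev σ w, ev σ' w) ∧ ev (fun a => (τ a : Fib π π' ⧸ dia X X')) w = ev τ w := fun w => by
    induction w with
    | nil => exact ⟨rfl, rfl⟩
    | cons a w ih => exact ⟨by rw [ev_cons, Subgroup.coe_mul, ih.1]; rfl, by rw [ev_cons, ih.2]; rfl⟩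
  obtain ⟨H, hH⟩ := hs _ p _ (fun a => τ a) Y (by
      ext g
      exact ⟨by rintro ⟨⟨x⟩, rfl⟩; exact ⟨_, rfl⟩, by rintro ⟨g, rfl⟩; obtain ⟨x, rfl⟩ := h2 g; exact ⟨x, rfl⟩⟩)
    ⟨h.hσ, fun i hi => by
      obtain ⟨n, h5, h6⟩ := h.hW i hi
      obtain ⟨n', h7, h8⟩ := h'.hW i hi
      refine ⟨_, h1 ⟨(n, n'), (X.ker h5).trans (X'.ker h7).symm⟩ h5 h7, ?_⟩
      rw [(h4 _).2, (h4 _).2, ← QuotientGroup.mk_mul]
      exact congrArg _ (Subtype.ext (by rw [Subgroup.coe_mul, (h4 _).1, (h4 _).1, h6, h8]; rfl))⟩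
  have b1 := bij_of_compl (QuotientGroup.mk' _) hH ((MonoidHom.fst E E').comp (Fib π π').subtype) h2
    (fun x hx => (congrArg π hx).trans (map_one π))
    (fun x hx h5 => by
      obtain ⟨s, h6, h7⟩ := (QuotientGroup.eq_one_iff x).1 hx
      exact Subtype.ext (Prod.ext h5 ((X'.hU h7).2 ((X.hU h6).1 h5))))
    (fun y hy => by
      obtain ⟨s, x, h5, h6, rfl⟩ := Y.ex hy
      obtain ⟨m, h7⟩ := X'.hS (s := s) fun _ h => absurd h List.not_mem_nil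
      refine ⟨x * ⟨(x.1.1, m), (X.ker h5).trans (X'.ker h7).symm⟩, (QuotientGroup.eq.2 ?_).symm, X.sq h5⟩
      rw [inv_mul_cancel_left]
      exact ⟨s, h5, h7⟩)
  have b2 := bij_of_compl (QuotientGroup.mk' _) hH ((MonoidHom.snd E E').comp (Fib π π').subtype) h3
    (fun x hx => (show π x.1.1 = π' x.1.2 from x.2).trans ((congrArg π' hx).trans (map_one π')))
    (fun x hx h5 => by
      obtain ⟨s, h6, h7⟩ := (QuotientGroup.eq_one_iff x).1 hx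
      exact Subtype.ext (Prod.ext ((X.hU h6).2 ((X'.hU h7).1 h5)) h5))
    (fun y hy => by
      obtain ⟨s, x, -, h6, rfl⟩ := Y.ex hy
      exact ⟨x, rfl, h6⟩)
  exact ⟨(MulEquiv.ofBijective _ b1).symm.trans (MulEquiv.ofBijective _ b2)⟩

end Cfsg.Agent.Golay
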