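import Mathlib
import Cfsg.Agent.Golay.H23d

/-!
Extensions of `M₂₃` by its two modules of dimension `11`.
-/

set_option autoImplicit false

namespace Cfsg.Agent.Golay.H23

open Cfsg.Agent.Comp Finset
open scoped Pointwise symmDiff

variable {E : Type*} [Group E] {π : E →* P24} {Rep : Finset GolayPt → E → Prop} {Z U : List ℕ}

theorem ok_dat (X : Ext π Rep Z U) (hr : π.range = Spor.M23) : ∃ σ W, Ok π Rep dat σ W :=
  exists_ok X (hr ▸ (fixTest_pt (k := 23) (by norm_num)).in_St (by decide +kernel)) (by decide +kernel)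

theorem compl_of_sat [Finite E] (X : Ext π Rep Z U) (hr : π.range = Spor.M23) {σ τ : ℕ → E}
    {W : ℕ → Finset GolayPt} (h : Ok π Rep dat σ W) (h1 : ∀ a, π (τ a) = π (σ a))
    (h2 : ∀ i < 28, ev τ (nthW dat.Ls i) = ev τ (nthW dat.Rs i)) : ∃ H : Subgroup E, π.ker.IsComplement' H := by
  have h3 : Ok π Rep { dat with R₀ := 0 } τ W := ⟨fun a => h1 a ▸ h.hσ a, fun i hi => absurd hi (by simp)⟩
  refine exists_compl X (A := Subgroup.closure (τ '' Set.Ico (7 - 7) 7)) (S := syl22) (gen_syl22.le _ fun g _ hg => ?_)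
    ((card_closure_pc τ 7 (fun i hi j hj hij => ?_) 7 le_rfl).trans card_syl22.ge) ?_
  · obtain ⟨w, h4, h5, h6⟩ := (show ∀ c ∈ gensSyl22, ∃ w ∈ [[0, 2, 4, 6], [0, 1, 2, 3, 4, 5, 6], [1, 6]],
      (∀ a ∈ w, a < 7) ∧ evalW 24 5 dat.cs w = c by decide +kernel) _ hg
    exact ⟨ev τ w, ev_mem fun a ha => Subgroup.subset_closure ⟨a, ⟨Nat.zero_le _, h5 a ha⟩, rfl⟩,
      pc_injective ((h3.pc_ev w).trans h6)⟩
  · obtain ⟨r, h4, h5, h6, h7⟩ := (show ∀ i < 7, ∀ j < 7, i ≤ j → ∃ r < 28, nthW dat.Ls r = [j, i] ∧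
      nthW dat.Rs r = (if i = j then [] else [i]) ++ (nthW dat.Rs r).filter (i < ·) ∧ ∀ a ∈ nthW dat.Rs r, a < 7 by
        decide +kernel) i hi j hj hij
    refine ⟨(nthW dat.Rs r).filter (i < ·), fun a ha =>
      ⟨by simpa using (List.mem_filter.1 ha).2, h7 a (List.mem_filter.1 ha).1⟩, ?_⟩
    rw [← h6, ← h2 r h4, h5, ev_cons, ev_single]
  · have h4 : syl22 ≤ Spor.M23 := inf_le_left.trans inf_le_left
    have h5 := (syl22.subgroupOf Spor.M23).card_mul_index
    rw [Nat.card_congr (Subgroup.subgroupOfEquivOfLe h4).toEquiv, card_syl22, card_M23] at h5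
    rw [hr, Subgroup.relIndex, show (syl22.subgroupOf Spor.M23).index = 79695 by omega]
    decide

theorem splitA [Finite E] (X : Ext π Rep ZA UA) (hr : π.range = Spor.M23) :
    ∃ H : Subgroup E, π.ker.IsComplement' H := by
  obtain ⟨σ, W, h⟩ := ok_dat X hr
  obtain ⟨τ, h1, h2⟩ := exists_sat X h chkA (by decide +kernel) (by decide +kernel) (by decide +kernel)
    (by decide +kernel) (by simp)
  exact compl_of_sat X hr h h1 h2

theorem splitB [Finite E] (X : Ext π Rep ZB UB) (hr : π.range = Spor.M23) {σ : ℕ → E} {W : ℕ → Finset GolayPt}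
    (h : Ok π Rep dat σ W) (hl : evF W 37 lam = 0) : ∃ H : Subgroup E, π.ker.IsComplement' H := by
  obtain ⟨τ, h1, h2⟩ := exists_sat X h chkB (by decide +kernel) (by decide +kernel) (by decide +kernel)
    (by decide +kernel) (List.forall_mem_singleton.2 ⟨by decide +kernel, hl⟩)
  exact compl_of_sat X hr h h1 h2

/-! ### the two modules -/

theorem mem_CW_iff_ip (s : Finset GolayPt) : s ∈ CW ↔ ∀ k < 12, ip (um (get 24 TB k)) s = 0 := by
  simp only [mem_CW_iff_syn, syn_mk_eq_zero, dot_ind, ip, inter_comm s]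

theorem ip_singleton (a : GolayPt) (s : Finset GolayPt) : ip {a} s = ind s a := by
  by_cases h : a ∈ s <;> simp [ip, ind, h]

theorem um_pow (a : GolayPt) : um (2 ^ gE.enc a) = {a} := by rw [← mk_singleton, um_mk]

theorem ZA_iff (s : Finset GolayPt) : (∀ z ∈ ZA, ip (um z) s = 0) ↔ ind s ∈ golayCode ∧ ind s none = 0 := by
  rw [show ZA = (List.range 12).map (get 24 TB) ++ [2 ^ gE.enc none] by decide +kernel, List.forall_mem_append,
    List.forall_mem_map, List.forall_mem_singleton, um_pow, ip_singleton, ← mem_CW_iff, mem_CW_iff_ip]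
  simp only [List.mem_range]

theorem UA_iff {s : Finset GolayPt} (hs : s ∈ CW) : (∀ u ∈ UA, ip (um u) s = 0) ↔ s = ∅ := by
  refine ⟨fun h => mk_eq_zero.1 (eq_zero_of_syn (mk_lt s) (Nat.eq_of_testBit_eq fun j => ?_) (syn_of_mem hs)),
    fun h u _ => h ▸ ip_empty' _⟩
  rw [show 4096 = 2 ^ 12 from rfl, Nat.testBit_mod_two_pow, Nat.zero_testBit, Bool.and_eq_false_imp, decide_eq_true_eq]
  intro hj
  have h1 := h _ ((show ∀ j < 12, 2 ^ j ∈ UA by decide +kernel) j hj)
  rw [← enc_pt (show j < 24 by omega)] at h1 ⊢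
  rw [um_pow, ip_singleton] at h1
  simpa [testBit_mk, ind] using h1

theorem UB_iff (s : Finset GolayPt) : (∀ u ∈ UB, ip (um u) s = 0) ↔
    ind s ∈ golayCode ∨ ind s + Pi.single none 1 ∈ golayCode := by
  have h1 : ∀ k < 12, ip (um (get 24 TB k)) {none} = if k = 11 then 1 else 0 := fun k hk => by
    rw [← um_pow, ip_um (get_lt _ _ _) (by decide)]
    revert k
    decide +kernel
  rw [show (Pi.single none 1 : GolayPt → ZMod 2) = ind {none} from funext fun a => by simp [ind, Pi.single_apply],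
    ← ind_symmDiff, ← mem_CW_iff, ← mem_CW_iff, mem_CW_iff_ip, mem_CW_iff_ip,
    show UB = (List.range 11).map (get 24 TB) by decide +kernel, List.forall_mem_map]
  simp only [List.mem_range, ip_symmDiff']
  refine ⟨fun h => (zmod2_cases (ip (um (get 24 TB 11)) s)).imp (fun h2 k hk => ?_) fun h2 k hk => ?_, ?_⟩
  · obtain hk | rfl := Nat.lt_succ_iff_lt_or_eq.1 hk
    exacts [h k hk, h2]
  · obtain hk' | rfl := Nat.lt_succ_iff_lt_or_eq.1 hk
    · rw [h k hk', h1 k hk, if_neg hk'.ne, add_zero]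
    · rw [h2, h1 _ hk]; rfl
  · rintro (h | h) k hk
    · exact h k (by omega)
    · simpa only [h1 k (by omega), if_neg hk.ne, add_zero] using h k (by omega)

/-- the projection onto `M₂₃` -/
def prj (N : Subgroup E) [N.Normal] (φ : E ⧸ N ≃* Spor.M23) : E →* P24 :=
  Spor.M23.subtype.comp (φ.toMonoidHom.comp (QuotientGroup.mk' N))

theorem prj_ker (N : Subgroup E) [N.Normal] (φ : E ⧸ N ≃* Spor.M23) : (prj N φ).ker = N := by
  ext g
  simp [prj, MonoidHom.mem_ker]

theorem prj_range (N : Subgroup E) [N.Normal] (φ : E ⧸ N ≃* Spor.M23) : (prj N φ).range = Spor.M23 := by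
  rw [prj, MonoidHom.range_comp, MonoidHom.range_eq_top.2 (φ.surjective.comp (QuotientGroup.mk'_surjective N)),
    ← MonoidHom.range_eq_map, Subgroup.range_subtype]

theorem extB (N : Subgroup E) [N.Normal] (φ : E ⧸ N ≃* Spor.M23) (θ : (GolayPt → ZMod 2) →+ Additive N)
    (hsurj : Function.Surjective θ) (hker : ∀ w, θ w = 0 ↔ (w ∈ golayCode ∨ w + Pi.single none 1 ∈ golayCode))
    (hθ : ∀ (g : E) (w : GolayPt → ZMod 2), ((θ (w ∘ ⇑(prj N φ g)⁻¹)).toMul : E) = g * ((θ w).toMul : E) * g⁻¹) :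
    Ext (prj N φ) (fun s n => ((θ (ind s)).toMul : E) = n) ZB UB where
  add := by rintro s t _ _ rfl rfl; rw [ind_symmDiff, map_add]; rfl
  conj := by rintro s _ g rfl; rw [ind_smul]; exact hθ g (ind s)
  ex := fun {n} hn => by
    obtain ⟨w, hw⟩ := hsurj (Additive.ofMul ⟨n, prj_ker N φ ▸ hn⟩)
    exact ⟨support₂ w, by rw [ind_support₂, hw]; rfl⟩
  ker := by rintro s _ rfl; exact (prj_ker N φ).ge (θ (ind s)).toMul.2
  hZ := fun _ _ h => absurd h List.not_mem_nil
  hS := fun _ => ⟨_, rfl⟩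
  hU := by rintro s _ rfl; rw [UB_iff, ← hker]; simp

end Cfsg.Agent.Golay.H23
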