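import Mathlib
import Cfsg.Agent.Golay.Index
import Cfsg.Agent.Golay.PSL
import Cfsg.Agent.S2140
import Cfsg.Agent.S5944

/-! Subgroups of index 253 and 759 in `M23`. -/

set_option autoImplicit false
set_option synthInstance.maxSize 1000

namespace Cfsg.Agent.Golay

open MulAction Finset
open scoped Pointwise

theorem exists_agree {U : Finset GolayPt} (hU : U.card ≤ 5) (σ : P24) :
    ∃ g ∈ M24, ∀ a ∈ U, g a = σ a := by
  obtain ⟨g, hg, e⟩ := exists_list_map hU (fun i => (U.equivFin.symm i : GolayPt))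
    (fun i => σ (U.equivFin.symm i)) (Subtype.val_injective.comp (Equiv.injective _))
    (σ.injective.comp (Subtype.val_injective.comp (Equiv.injective _)))
  exact ⟨g, hg, fun a ha => by simpa using e (U.equivFin ⟨a, ha⟩)⟩

theorem fix_smul {F : Finset GolayPt} : ∀ g ∈ fixOct F, g • Fᶜ = Fᶜ := fun g hg => by
  rw [smul_compl', smul_eq_of_fix (mem_fixOct.1 hg).2]

theorem homog_fix {F : Finset GolayPt} {t₀ : ℕ} (h : F.card + t₀ ≤ 5) :
    ∀ t ≤ t₀, Homog (fixOct F) Fᶜ t := by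
  intro t ht s hs s' hs' e e'
  obtain ⟨σ, hσ⟩ := Equiv.Perm.exists_extending_pair
    (f := Sum.elim (fun a : F => a.1) fun a : s => a.1)
    (g := Sum.elim (fun a : F => a.1) fun a : s => (s.equivOfCardEq (e.trans e'.symm) a).1)
    (Subtype.val_injective.sumElim Subtype.val_injective fun a b h =>
      mem_compl.1 (hs b.2) (h ▸ a.2))
    (Subtype.val_injective.sumElim (Subtype.val_injective.comp (Equiv.injective _)) fun a b h =>
      mem_compl.1 (hs' (Subtype.prop _)) (h ▸ a.2))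
  obtain ⟨g, hg, h1⟩ := exists_agree (U := F ∪ s) ((card_union_le _ _).trans (by omega)) σ
  refine ⟨g, mem_fixOct.2 ⟨hg, fun a ha => (h1 a (mem_union_left _ ha)).trans (hσ (.inl ⟨a, ha⟩))⟩,
    eq_of_subset_of_card_le (fun a ha => ?_) (by rw [card_smul_finset, e, e'])⟩
  obtain ⟨b, hb, rfl⟩ := mem_smul_finset.1 ha
  show g b ∈ s'
  rw [h1 b (mem_union_right _ hb), show σ b = _ from hσ (.inr ⟨b, hb⟩)]
  exact Subtype.prop _

theorem St_fix (F : Finset GolayPt) (b : GolayPt) : St (fixOct F) b = fixOct (insert b F) := by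
  ext g; simp only [mem_St, mem_fixOct, forall_mem_insert]; tauto

theorem card_cpl {F : Finset GolayPt} {k : ℕ} (h : F.card = k) : Fᶜ.card = 24 - k := by
  rw [card_compl, h]; rfl

theorem card_fix {k : ℕ} (hk : k ≤ 5) : ∀ F : Finset GolayPt, F.card = k →
    Nat.card (fixOct F) = 244823040 / Nat.descFactorial 24 k := by
  induction k with
  | zero => intro F h; rw [card_eq_zero.1 h, show fixOct ∅ = M24 by ext; simp, card_M24]; rfl
  | succ k ih =>
    intro F h
    obtain ⟨b, F, hb, rfl, h'⟩ := card_eq_succ.1 h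
    rw [← St_fix]
    exact (homog_fix (t₀ := 1) (by omega) 1 le_rfl).card_St fix_smul (mem_compl.2 hb)
      (ih (by omega) F h') (card_cpl h') (by omega)
      ((by decide : ∀ k < 5, 244823040 / Nat.descFactorial 24 k =
        (24 - k) * (244823040 / Nat.descFactorial 24 (k + 1))) k hk)

theorem big_M21 {K : Subgroup P24} {F : Finset GolayPt} (hF : F.card = 3) (hK : K ≤ fixOct F)
    (h : 960 < Nat.card K) : Nat.card K = 20160 := by
  obtain ⟨a, b, c, h1, h2, h3, rfl⟩ := card_eq_three.1 hF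
  obtain ⟨e⟩ := equiv_St (G := M24) (K := (fixOct {a, b, c}).subgroupOf M24)
    (trans_pt3 (p := none) (q := some 0) (r := some 1) (by decide) (by decide) (by decide) h1 h2 h3)
    fun g => by rw [Subgroup.mem_subgroupOf, mem_fixOct]; simp [Prod.ext_iff, and_assoc]
  obtain ⟨e'⟩ := M21_equiv
  let ε := (Subgroup.subgroupOfEquivOfLe inf_le_left).symm.trans
    (e.trans ((MulEquiv.subgroupCongr M21_eq.symm).trans e'))
  let φ := ε.toMonoidHom.comp (Subgroup.inclusion hK)
  have hφ : Nat.card φ.range = Nat.card K := (Nat.card_congr (MonoidHom.ofInjective (f := φ)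
    fun _ _ h => Subgroup.inclusion_injective hK (ε.injective h)).toEquiv).symm
  have h4 := φ.range.card_mul_index
  rw [card_PSL34, hφ] at h4
  by_cases e : φ.range = ⊤
  · rw [← hφ, e, Subgroup.card_top, card_PSL34]
  · have := (S2140.result (q := 4) (by rw [← Nat.card_eq_fintype_card, Classical.SmallFields.card_F4]) 3 le_rfl
      (by norm_num)).1 _ e
    norm_num at this
    nlinarith

theorem card_split {K : Subgroup P24} (hK : K ≤ M24) {s : Finset GolayPt}
    (hs : ∀ k ∈ K, k • s = s) :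
    Nat.card K = Nat.card (permHom K s hs).range * Nat.card (K ⊓ fixOct s : Subgroup P24) := by
  rw [← (permHom K s hs).ker.card_mul_index, Subgroup.index_ker, mul_comm,
    ← Subgroup.card_map_of_injective K.subtype_injective]
  congr 3
  ext g
  simp only [Subgroup.mem_map, mem_ker_permHom]
  exact ⟨fun ⟨k, h, e⟩ => e ▸ ⟨k.2, mem_fixOct.2 ⟨hK k.2, h⟩⟩,
    fun h => ⟨⟨g, h.1⟩, (mem_fixOct.1 h.2).2, rfl⟩⟩

theorem card_split_le {K : Subgroup P24} {F s : Finset GolayPt} (hK : K ≤ fixOct F)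
    (hs : ∀ k ∈ K, k • s = s) : ∃ L ≤ fixOct (F ∪ s), L ≤ K ∧
      ∃ a, a ∣ s.card.factorial ∧ Nat.card K = a * Nat.card L :=
  ⟨K ⊓ fixOct s, fun _ hg => mem_fixOct.2 ⟨(hK hg.1).1, fun a ha => (mem_union.1 ha).elim
    ((mem_fixOct.1 (hK hg.1)).2 a) ((mem_fixOct.1 hg.2).2 a)⟩, inf_le_left, _,
    card_perm_finset s ▸ Subgroup.card_subgroup_dvd_card _, card_split (fun _ h => (hK h).1) hs⟩

theorem inv23 {K : Subgroup P24} {x : GolayPt} (hK : K ≤ fixOct {x}) {m : ℕ}
    (hm : m = 253 ∨ m = 759) (h : 10200960 = m * Nat.card K) :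
    ∃ s : Finset GolayPt, x ∉ s ∧ (∀ k ∈ K, k • s = s) ∧
      (s.card = 2 ∨ (s.card = 7 ∧ insert x s ∈ octads) ∨ s.card = 8) := by
  obtain ⟨y, hy⟩ := exists_ne x
  have hD : ({x} : Finset GolayPt)ᶜ.card = 23 := card_cpl (card_singleton x)
  have h0 : ∀ z ∈ orbF K y, z ∈ ({x} : Finset GolayPt)ᶜ := fun z hz => by
    obtain ⟨k, hk, rfl⟩ := mem_orbF.1 hz
    exact mem_of_smul_eq (fix_smul k (hK hk)) (by simpa)
  have h1 := inv_card (homog_fix (t₀ := 4) (by simp)) fix_smul hD hK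
    ((card_fix (by norm_num) _ (card_singleton x)).trans h) h0 fun k hk => smul_orbF y hk
  have h2 : Nat.card K = _ := card_orbF_mul K y
  have h3 := card_le_card h0
  have h4 : 0 < (orbF K y).card := card_pos.2 ⟨y, mem_orbF.2 ⟨1, one_mem _, rfl⟩⟩
  rw [hD] at h3
  obtain ⟨s, hx, hs, hc⟩ : ∃ s : Finset GolayPt, x ∉ s ∧ (∀ k ∈ K, k • s = s) ∧
      s.card ∈ [1, 2, 7, 8] := by
    have h5 : ∀ m, m = 253 ∨ m = 759 → ∀ k < 23, 0 < k → (∀ t ≤ 4, Nat.choose 23 t ∣ m * k.choose t ∧
        Nat.choose 23 t ∣ m * (23 - k).choose t) → k ∈ [1, 2, 7, 8] ∨ 23 - k ∈ [1, 2, 7, 8] := by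
      rintro _ (rfl | rfl) <;> decide +kernel
    rcases h5 m hm _ (lt_of_le_of_ne h3 fun e => by
      rw [e] at h2; rcases hm with rfl | rfl <;> omega) h4 h1 with e | e
    · exact ⟨_, fun e => by simpa using h0 x e, fun k hk => smul_orbF y hk, e⟩
    · refine ⟨{x}ᶜ \ orbF K y, by simp, fun k hk => ?_, ?_⟩
      · rw [smul_finset_sdiff, fix_smul k (hK hk), smul_orbF y hk]
      · rwa [card_sdiff_of_subset h0, hD]
  have h6 : ({x} ∪ s).card = s.card + 1 := by rw [← insert_eq, card_insert_of_notMem hx]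
  obtain ⟨L, hL, hL', a, ha, e⟩ := card_split_le hK hs
  simp only [List.mem_cons, List.not_mem_nil, or_false] at hc
  rcases hc with hc | hc | hc | hc
  · exfalso
    obtain rfl : a = 1 := by simpa [hc] using ha
    rw [hc] at h6
    have h7 : ({x} ∪ s)ᶜ.card = 22 := card_cpl h6
    have h8 : Nat.card (fixOct ({x} ∪ s)) = 443520 := card_fix (by norm_num) _ h6
    rcases fix_or_trans (homog_fix (t₀ := 3) (by omega)) fix_smul h7 hL (m := m / 23)
      (show Nat.card (fixOct ({x} ∪ s)) = m / 23 * Nat.card L by rcases hm with rfl | rfl <;> omega)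
      (by rcases hm with rfl | rfl <;> decide +kernel) with ⟨b, hb, hb'⟩ | h'
    · have := card_dvd_St hL hb' rfl ((St_fix _ b).symm ▸ card_fix (k := 3) (by norm_num) _
        (by rw [card_insert_of_notMem (mem_compl.1 hb), h6]))
      norm_num [Nat.descFactorial] at this
      obtain ⟨c, hc⟩ := this
      rcases hm with rfl | rfl
      · rw [show Nat.card L = 40320 by omega] at hc; omega
      · rw [show Nat.card L = 13440 by omega] at hc; omega
    · obtain ⟨b, hb⟩ := card_pos.1 (show 0 < ({x} ∪ s)ᶜ.card by omega)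
      have : 22 ∣ Nat.card L := dvd_of_orbF (h' b hb) rfl h7
      rcases hm with rfl | rfl <;> omega
  · exact ⟨s, hx, hs, Or.inl hc⟩
  · refine ⟨s, hx, hs, Or.inr (Or.inl ⟨hc, by_contra fun ho => ?_⟩)⟩
    have h7 : L = ⊥ := eq_bot_iff.2 fun g hg => by_contra fun h1 => by
      have h8 : {x} ∪ s ⊆ Fx g := fun a ha => mem_Fx.2 ((mem_fixOct.1 (hL hg)).2 a ha)
      have h9 := card_le_card h8
      rcases fix_cases (hL hg).1 (by omega) with h | h | h
      · exact h1 h
      · exact ho (insert_eq x s ▸ (eq_of_subset_of_card_le h8 (by rw [h.1.2]; omega)) ▸ h.1)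
      · omega
    have := Nat.le_of_dvd (Nat.factorial_pos _) ha
    rw [hc, show Nat.factorial 7 = 5040 from rfl] at this
    rw [h7, Subgroup.card_bot] at e
    rcases hm with rfl | rfl <;> omega
  · exact ⟨s, hx, hs, Or.inr (Or.inr hc)⟩

theorem eight_hom {K : Subgroup P24} {x : GolayPt} (hK : K ≤ fixOct {x}) {s : Finset GolayPt}
    (hx : x ∉ s) (hs : ∀ k ∈ K, k • s = s) (hc : s.card = 8) :
    ∃ (φ : K →* Equiv.Perm (Fin 8)) (e : Fin 8 → GolayPt), Function.Injective φ ∧
      Function.Injective e ∧ (∀ i, e i ∈ s) ∧ ∀ g i, g.1 (e i) = e (φ g i) := by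
  let e := s.equivFinOfCardEq hc
  refine ⟨e.permCongrHom.toMonoidHom.comp (permHom K s hs), fun i => e.symm i,
    e.permCongrHom.injective.comp (permHom_injective hs fun g hg h => eq_one_of_nine (hK hg).1 ?_),
    Subtype.val_injective.comp e.symm.injective, fun i => (e.symm i).2, fun g i => ?_⟩
  · refine le_trans (by rw [card_insert_of_notMem hx, hc]) (card_le_card (s := insert x s) ?_)
    exact insert_subset (mem_Fx.2 ((mem_fixOct.1 (hK hg)).2 x (mem_singleton_self x)))
      fun a ha => mem_Fx.2 (h a ha)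
  · simp [permHom_apply]

theorem card_St_oct_in {o : Finset GolayPt} (ho : o ∈ octads) {x : GolayPt} (hx : x ∈ o) :
    Nat.card (St (St M24 o) x) = 40320 :=
  card_St_of_trans (S := o) (fun g hg => mem_of_smul_eq (mem_St.1 hg).2 hx) (fun y hy => by
    obtain ⟨g, hg, e⟩ := oct_pt_trans ho ho hx hy
    exact ⟨g, ⟨hg, congrArg Prod.fst e⟩, congrArg Prod.snd e⟩) (card_St_oct ho)
    (by rw [Set.ncard_coe_finset, ho.2]) (by norm_num) (by norm_num)

theorem smul_insert_of {K : Subgroup P24} {x : GolayPt} (hK : K ≤ fixOct {x}) {s : Finset GolayPt}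
    (hs : ∀ k ∈ K, k • s = s) : K ≤ St (St M24 (insert x s)) x := fun k hk =>
  have h : k • x = x := (mem_fixOct.1 (hK hk)).2 x (mem_singleton_self x)
  ⟨mem_St.2 ⟨(hK hk).1, by rw [smul_finset_insert, h, hs k hk]⟩, h⟩

theorem idx253 {K : Subgroup P24} {x : GolayPt} (hK : K ≤ fixOct {x}) (h : Nat.card K = 40320) :
    (∃ s : Finset GolayPt, s.card = 2 ∧ x ∉ s ∧ K = St (St M24 s) x) ∨
      ∃ o ∈ octads, x ∈ o ∧ K = St (St M24 o) x := by
  obtain ⟨s, hx, hs, hc | ⟨-, hc⟩ | hc⟩ := inv23 hK (Or.inl rfl) (by rw [h])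
  · refine Or.inl ⟨s, hc, hx, Subgroup.eq_of_le_of_card_ge (fun k hk =>
      ⟨⟨(hK hk).1, hs k hk⟩, (mem_fixOct.1 (hK hk)).2 x (mem_singleton_self x)⟩) ?_⟩
    obtain ⟨L, hL, -, a, ha, e⟩ := card_split_le (K := St (St M24 s) x) (F := {x}) (s := s)
      (fun g hg => mem_fixOct.2 ⟨hg.1.1, fun a ha => mem_singleton.1 ha ▸ hg.2⟩) fun g hg => hg.1.2
    have h1 := Subgroup.card_le_of_le hL
    rw [card_fix (k := 3) (by norm_num) _ (by rw [← insert_eq, card_insert_of_notMem hx, hc])] at h1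
    have h2 := Nat.le_of_dvd (Nat.factorial_pos _) ha
    rw [hc] at h2
    exact e.trans_le ((Nat.mul_le_mul h2 h1).trans h.ge)
  · exact Or.inr ⟨_, hc, mem_insert_self _ _, Subgroup.eq_of_le_of_card_ge (smul_insert_of hK hs)
      (by rw [card_St_oct_in hc (mem_insert_self _ _), h])⟩
  · exfalso
    obtain ⟨φ, e, h1, h2, h3, h4⟩ := eight_hom hK hx hs hc
    obtain ⟨g, hg⟩ := ((Nat.bijective_iff_injective_and_card φ).2
      ⟨h1, by rw [h, Nat.card_perm, Nat.card_fin]; rfl⟩).2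
      (Equiv.swap 0 1 * Equiv.swap 1 2 * Equiv.swap 2 3)
    have h5 : insert x (({4, 5, 6, 7} : Finset (Fin 8)).image e) ⊆ Fx g.1 :=
      insert_subset (mem_Fx.2 ((mem_fixOct.1 (hK g.2)).2 x (mem_singleton_self x))) fun a ha => by
        obtain ⟨i, hi, rfl⟩ := mem_image.1 ha
        rw [mem_Fx, h4, hg]
        congr 1; clear ha; revert i; decide
    have h6 := card_le_card h5
    rw [card_insert_of_notMem (fun h => by
      obtain ⟨i, -, rfl⟩ := mem_image.1 h; exact hx (h3 i)), card_image_of_injective _ h2] at h6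
    have h7 : ∀ n, g.1 ^ n = 1 → (Equiv.swap 0 1 * Equiv.swap 1 2 * Equiv.swap 2 3 :
        Equiv.Perm (Fin 8)) ^ n = 1 := fun n e => by
      rw [← hg, ← map_pow, show g ^ n = 1 from Subtype.ext e, map_one]
    rcases fix_cases (hK g.2).1 h6 with h | h | h
    · exact absurd (h7 1 (by rw [h, one_pow])) (by decide)
    · exact absurd (h7 2 (by rw [sq, h.2])) (by decide)
    · exact absurd (h7 3 h.2.1) (by decide)

end Cfsg.Agent.Golay
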