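import Mathlib
import Cfsg.Agent.Golay.Idx2
import Cfsg.Agent.Golay.Fus
import Cfsg.Agent.Golay.Hom

/-! Subgroups of index 759, 276, 253 and 1771 in `M24`. -/

set_option autoImplicit false
set_option synthInstance.maxSize 1000

namespace Cfsg.Agent.Golay

open MulAction Finset
open scoped Pointwise

theorem card_split_alt {K : Subgroup P24} {F s : Finset GolayPt} (hK : K ≤ fixOct F)
    (hs : ∀ k ∈ K, k • s = s) {n : ℕ} (hn : s.card = n) (h5 : 5 ≤ n) :
    ∃ L ≤ fixOct (F ∪ s), ∃ a, Nat.card K = a * Nat.card L ∧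
      (a * n ≤ n.factorial ∨ a = n.factorial ∨ 2 * a = n.factorial) := by
  refine ⟨K ⊓ fixOct s, fun _ hg => mem_fixOct.2 ⟨(hK hg.1).1, fun a ha => (mem_union.1 ha).elim
    ((mem_fixOct.1 (hK hg.1)).2 a) ((mem_fixOct.1 hg.2).2 a)⟩, _,
    card_split (fun _ h => (hK h).1) hs, ?_⟩
  let e := (s.equivFinOfCardEq hn).permCongrHom
  rw [← Subgroup.card_map_of_injective (f := e.toMonoidHom) e.injective]
  generalize (permHom K s hs).range.map e.toMonoidHom = R
  have h1 := R.card_mul_index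
  have : Nontrivial (Fin n) := Fin.nontrivial_iff_two_le.2 (by omega)
  have h2 := two_mul_nat_card_alternatingGroup (α := Fin n)
  rw [Nat.card_perm, Nat.card_fin] at h1 h2
  by_cases h3 : R = ⊤
  · simp [h3, Fintype.card_perm]
  by_cases h4 : R = alternatingGroup (Fin n)
  · exact Or.inr (Or.inr (h4 ▸ h2))
  exact Or.inl (h1 ▸ Nat.mul_le_mul_left _ (S5944.result n (by omega) R h3 h4))

theorem fix_le_oct {o F : Finset GolayPt} (ho : o ∈ octads) (h : F ⊆ o) (h6 : 6 ≤ F.card) :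
    fixOct F ≤ fixOct o := fun g hg => by
  have h1 : F ⊆ Fx g := fun a ha => mem_Fx.2 ((mem_fixOct.1 hg).2 a ha)
  have h2 := card_le_card h1
  rcases fix_cases hg.1 (by omega) with rfl | h3 | h3
  · exact one_mem _
  · rw [octads_eq_of_five ho h3.1 (le_trans (by omega) (card_le_card (subset_inter h h1)))]
    exact mem_fixOct.2 ⟨hg.1, fun a => mem_Fx.1⟩
  · exact (h3.2.2 ⟨o, ho, eq_of_subset_of_card_le h1 (by omega) ▸ h⟩).elim

theorem card_le_sixteen {L : Subgroup P24} {o F : Finset GolayPt} (ho : o ∈ octads) (h : F ⊆ o)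
    (h6 : 6 ≤ F.card) (hL : L ≤ fixOct F) : Nat.card L ∣ 16 :=
  card_fixOct ho ▸ Subgroup.card_dvd_of_le (hL.trans (fix_le_oct ho h h6))

theorem no759 {K : Subgroup P24} {x : GolayPt} (hK : K ≤ fixOct {x}) : Nat.card K ≠ 13440 := by
  intro h
  obtain ⟨s, hx, hs, hc | ⟨hc, ho⟩ | hc⟩ := inv23 hK (Or.inr rfl) (by rw [h])
  · obtain ⟨L, hL, -, a, ha, e⟩ := card_split_le hK hs
    have h1 := Nat.le_of_dvd two_pos (hc ▸ ha)
    have h2 := big_M21 (by rw [← insert_eq, card_insert_of_notMem hx, hc]) hL (by nlinarith)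
    rw [h2] at e; omega
  · obtain ⟨L, hL, a, e, ha⟩ := card_split_alt hK hs hc (by norm_num)
    have h1 := Nat.le_of_dvd (by norm_num) (card_le_sixteen ho (insert_eq x s).ge
      (by rw [← insert_eq, ho.2]; norm_num) hL)
    norm_num [Nat.factorial] at ha
    rcases ha with ha | ha | ha
    · nlinarith
    · rw [ha] at e; omega
    · rw [show a = 2520 by omega] at e; omega
  · obtain ⟨L, hL, a, e, ha⟩ := card_split_alt hK hs hc (by norm_num)
    have h1 : L = ⊥ := eq_bot_iff.2 fun g hg => eq_one_of_nine (hL hg).1 (le_trans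
      (by rw [← insert_eq, card_insert_of_notMem hx, hc])
      (card_le_card fun a ha => mem_Fx.2 ((mem_fixOct.1 (hL hg)).2 a ha)))
    rw [h1, Subgroup.card_bot] at e
    norm_num [Nat.factorial] at ha
    omega

theorem St_le_fix {H : Subgroup P24} (hH : H ≤ M24) (x : GolayPt) : St H x ≤ fixOct {x} :=
  fun _ hg => mem_fixOct.2 ⟨hH hg.1, fun _ ha => mem_singleton.1 ha ▸ hg.2⟩

theorem le_fix_empty {H : Subgroup P24} (hH : H ≤ M24) : H ≤ fixOct ∅ :=
  fun _ hg => mem_fixOct.2 ⟨hH hg, by simp⟩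

theorem inv24 {H : Subgroup P24} (hH : H ≤ M24) {m k : ℕ} (h : 244823040 = m * Nat.card H)
    (hk : ∀ j < 24, 0 < j → (∀ t ≤ 5, Nat.choose 24 t ∣ m * j.choose t ∧
      Nat.choose 24 t ∣ m * (24 - j).choose t) → j = k ∨ 24 - j = k) :
    (∃ s : Finset GolayPt, s.card = k ∧ ∀ g ∈ H, g • s = s) ∨
      Nat.card H = 24 * Nat.card (St H (none : GolayPt)) := by
  have h1 := inv_card homog_M24 (fun g _ => smul_finset_univ) card_golayPt hH (card_M24.trans h)
    (subset_univ (orbF H none)) fun k hk => smul_orbF _ hk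
  refine or_iff_not_imp_right.2 fun h2 => ?_
  rcases hk _ (lt_of_le_of_ne ((card_le_univ _).trans card_golayPt.le) fun e =>
    h2 (e ▸ card_orbF_mul H none)) (card_pos.2 ⟨_, mem_orbF.2 ⟨1, one_mem _, rfl⟩⟩) h1 with e | e
  · exact ⟨_, e, fun k hk => smul_orbF _ hk⟩
  · exact ⟨_, (card_cpl rfl).trans e, fun k hk => by rw [smul_compl', smul_orbF _ hk]⟩

theorem idx759 {H : Subgroup P24} (hH : H ≤ M24) (h : Nat.card H = 322560) :
    ∃ o ∈ octads, H = St M24 o := by
  rcases inv24 hH (m := 759) (k := 8) (by rw [h]) (by decide +kernel) with ⟨s, hc, hs⟩ | e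
  · obtain ⟨L, hL, -, a, ha, e⟩ := card_split_le (le_fix_empty hH) hs
    have h1 := Nat.le_of_dvd (Nat.factorial_pos _) ha
    rw [hc, show Nat.factorial 8 = 40320 from rfl] at h1
    obtain ⟨⟨g, hg⟩, h2⟩ := Subgroup.ne_bot_iff_exists_ne_one.1 (show L ≠ ⊥ by
      rintro rfl; rw [Subgroup.card_bot] at e; omega)
    have h3 : s ⊆ Fx g := fun a ha => mem_Fx.2 ((mem_fixOct.1 (hL hg)).2 a (mem_union_right _ ha))
    have h4 := card_le_card h3
    have ho : s ∈ octads := by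
      rcases fix_cases (hL hg).1 (by omega) with h | h | h
      · exact (h2 (Subtype.ext h)).elim
      · exact eq_of_subset_of_card_le h3 (by rw [h.1.2, hc]) ▸ h.1
      · omega
    exact ⟨s, ho, Subgroup.eq_of_le_of_card_ge (fun g hg => ⟨hH hg, hs g hg⟩)
      (by rw [card_St_oct ho, h])⟩
  · exact (no759 (St_le_fix hH none) (by omega)).elim

theorem idx276 {H : Subgroup P24} (hH : H ≤ M24) (h : Nat.card H = 887040) :
    ∃ s : Finset GolayPt, s.card = 2 ∧ H = St M24 s := by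
  rcases inv24 hH (m := 276) (k := 2) (by rw [h]) (by decide +kernel) with ⟨s, hc, hs⟩ | e
  · refine ⟨s, hc, Subgroup.eq_of_le_of_card_ge (fun g hg => ⟨hH hg, hs g hg⟩) ?_⟩
    obtain ⟨L, hL, -, a, ha, e⟩ := card_split_le (le_fix_empty (H := St M24 s) inf_le_left)
      fun g hg => hg.2
    have h1 := Subgroup.card_le_of_le hL
    rw [card_fix (k := 2) (by norm_num) _ (by rw [empty_union, hc])] at h1
    exact e.trans_le ((Nat.mul_le_mul (Nat.le_of_dvd two_pos (by rwa [hc] at ha)) h1).trans h.ge)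
  exfalso
  have h1 : Nat.card (St H (none : GolayPt)) = 36960 := by omega
  have hK := St_le_fix hH none
  rcases fix_or_trans (homog_fix (t₀ := 4) (by simp)) fix_smul (card_cpl (card_singleton _)) hK
    (m := 276) (by rw [card_fix (by norm_num) _ (card_singleton _), h1]; rfl)
    (by decide +kernel) with ⟨b, hb, hb'⟩ | h'
  · have h2 : (insert b ({none} : Finset GolayPt)).card = 2 := by
      rw [card_insert_of_notMem (mem_compl.1 hb), card_singleton]
    have hK' : St H (none : GolayPt) ≤ fixOct (insert b {none}) :=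
      St_fix _ b ▸ fun k hk => ⟨hK hk, hb' k hk⟩
    rcases fix_or_trans (homog_fix (t₀ := 3) (by rw [h2])) fix_smul (card_cpl h2) hK'
      (m := 12) (by rw [card_fix (by norm_num) _ h2, h1]; rfl)
      (by decide +kernel) with ⟨c, hc, hc'⟩ | h''
    · exact absurd (card_dvd_St hK' hc' h1 ((St_fix _ c).symm ▸ card_fix (k := 3) (by norm_num) _
        (by rw [card_insert_of_notMem (mem_compl.1 hc), h2]))) (by decide)
    · obtain ⟨c, hc⟩ := card_pos.1 (show 0 < (insert b ({none} : Finset GolayPt))ᶜ.card by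
        rw [card_cpl h2]; norm_num)
      have h3 := card_St_of_orbF (h'' c hc) h1 (card_cpl h2) (N' := 1680) (by norm_num) (by norm_num)
      have h4 := big_M21 (K := St (St H (none : GolayPt)) c)
        (by rw [card_insert_of_notMem (mem_compl.1 hc), h2])
        (fun k hk => (St_fix _ c).le ⟨hK' hk.1, hk.2⟩) (h3 ▸ by norm_num)
      exact absurd (h3.symm.trans h4) (by norm_num)
  · exact absurd (dvd_of_orbF (h' (some 0) (by simp)) h1 (card_cpl (card_singleton _))) (by decide)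

theorem fix_move {F : Finset GolayPt} (hF : F.card ≤ 4) {d f : GolayPt} (hd : d ∉ F) (hf : f ∉ F) :
    ∃ m ∈ fixOct F, m d = f := by
  obtain ⟨m, hm, e⟩ := homog_fix (F := F) (t₀ := 1) (by omega) 1 le_rfl {d} (by simpa) {f} (by simpa)
    rfl rfl
  exact ⟨m, hm, by simpa using e⟩

theorem trans24 {H : Subgroup P24} (hH : H ≤ M24) {m N : ℕ} (h : Nat.card H = N)
    (hm : 244823040 = m * N) (h1 : ¬ N ∣ 10200960)
    (ha : ∀ k < 24 - 1, 2 ≤ k → ∃ t ≤ 5, ¬ (Nat.choose 24 t ∣ m * k.choose t ∧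
      Nat.choose 24 t ∣ m * (24 - k).choose t)) : ∀ x y : GolayPt, ∃ g ∈ H, g x = y := by
  rcases fix_or_trans homog_M24 (fun g _ => smul_finset_univ) card_golayPt hH
    (card_M24.trans (h ▸ hm)) ha with ⟨b, -, hb⟩ | h'
  · exact absurd (card_dvd_St hH hb h (card_St_M24 b)) h1
  · exact fun x y => mem_orbF.1 (h' x (mem_univ _) ▸ mem_univ y)

theorem card_St_trans {H : Subgroup P24} (h : ∀ x y : GolayPt, ∃ g ∈ H, g x = y) {N : ℕ}
    (hN : Nat.card H = 24 * N) (x : GolayPt) : Nat.card (St H x) = N :=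
  card_St_of_orbF (eq_univ_of_forall fun y => mem_orbF.2 (h x y)) hN card_golayPt (by norm_num) rfl

theorem smul_of_conj {H : Subgroup P24} {x : GolayPt} {s : Finset GolayPt}
    (hs : ∀ k ∈ St H x, k • s = s) {g m : P24} (hg : g ∈ H) (hm : m ∈ H) (e : m (g x) = g x) :
    m • g • s = g • s := by
  have := hs (g⁻¹ * m * g) ⟨H.mul_mem (H.mul_mem (H.inv_mem hg) hm) hg, by
    show g⁻¹ (m (g x)) = x
    rw [e]; simp⟩
  rwa [mul_smul, mul_smul, inv_smul_eq_iff] at this

theorem exists_five {K : Subgroup P24} (hK : K ≤ M24) (h : 5 ∣ Nat.card K) {o : Finset GolayPt}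
    (ho : o ∈ octads) (hs : ∀ k ∈ K, k • o = o) : ∃ m ∈ K, (Fx m).card ≤ 4 ∧ (∃ c ∉ o, m c = c) ∧
      ∀ o' ∈ octads, m • o' = o' → 3 ≤ (o' ∩ Fx m).card := by
  have := Fact.mk Nat.prime_five
  obtain ⟨m, hm⟩ := exists_prime_orderOf_dvd_card' 5 h
  rw [← Subgroup.orderOf_coe] at hm
  have h5 : m.1 ^ 5 = 1 := hm ▸ pow_orderOf_eq_one _
  refine ⟨m, m.2, by_contra fun h4 => ?_, ?_, fun o' ho' e => ?_⟩
  · have h1 : ∀ n, m.1 ^ n = 1 → 5 ∣ n := fun n e => hm ▸ orderOf_dvd_of_pow_eq_one e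
    rcases fix_cases (hK m.2) (by omega) with h | h | h
    · exact absurd (h1 1 (by rw [h, one_pow])) (by norm_num)
    · exact absurd (h1 2 (by rw [sq, h.2])) (by norm_num)
    · exact absurd (h1 3 h.2.1) (by norm_num)
  · obtain ⟨c, hc, e⟩ := exists_fix_of_not_dvd Nat.prime_five h5 (D := oᶜ)
      (by rw [smul_compl', hs _ m.2]) (by rw [card_cpl ho.2]; norm_num)
    exact ⟨c, mem_compl.1 hc, e⟩
  · have := card_inter_Fx_modEq Nat.prime_five h5 e
    rw [ho'.2, Nat.ModEq] at this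
    omega

theorem no253 {H : Subgroup P24} (hH : H ≤ M24) : Nat.card H ≠ 967680 := by
  intro h
  have ht := trans24 hH h (m := 253) (by norm_num) (by norm_num) (by decide +kernel)
  have h1 := card_St_trans ht (N := 40320) h none
  rcases idx253 (St_le_fix hH none) h1 with ⟨s, hc, hx, e⟩ | ⟨o, ho, hx, e⟩
  · have hs : ∀ k ∈ St H (none : GolayPt), k • s = s := fun k hk => (e.le hk).1.2
    have hT : (insert none s).card = 3 := by rw [card_insert_of_notMem hx, hc]
    have h2 : fixOct (insert none s) ≤ H := fun g hg => (mem_St.1 (e.ge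
      ⟨⟨hg.1, smul_eq_of_fix fun a ha => (mem_fixOct.1 hg).2 a (mem_insert_of_mem ha)⟩,
        (mem_fixOct.1 hg).2 _ (mem_insert_self _ _)⟩)).1
    have key : ∀ g ∈ H, g none ∉ insert none s → ∀ a ∈ s, g a ∈ insert none s :=
      fun g hg h3 a ha => by_contra fun h4 => by
      obtain ⟨f, hf⟩ := exists_not_mem_of_card_lt (s := insert (g none) (insert none s) ∪ g • s)
        ((card_union_le _ _).trans_lt (by rw [card_insert_of_notMem h3, card_smul_finset]; omega))
      rw [mem_union, not_or] at hf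
      obtain ⟨m, hm, e'⟩ := fix_move (by rw [card_insert_of_notMem h3, hT]) (d := g a)
        (fun h => (mem_insert.1 h).elim (fun h => hx ((g.injective h : a = none) ▸ ha)) h4) hf.1
      rw [← St_fix] at hm
      exact hf.2 (e' ▸ mem_of_smul_eq (smul_of_conj hs hg (h2 hm.1) hm.2) (smul_mem_smul_finset ha))
    obtain ⟨a, ha⟩ := card_pos.1 (show 0 < s.card by omega)
    obtain ⟨c, hc'⟩ := exists_not_mem_of_card_lt (s := insert none s) (by omega)
    obtain ⟨g, hg, e1⟩ := ht none c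
    obtain ⟨k, hk, e2⟩ := ht (g a) c
    obtain ⟨f, hf⟩ := exists_not_mem_of_card_lt (s := insert none s ∪ k⁻¹ • insert none s)
      ((card_union_le _ _).trans_lt (by rw [card_smul_finset]; omega))
    rw [mem_union, not_or] at hf
    obtain ⟨m, hm, e3⟩ := fix_move (F := insert none s) (by omega) hc' hf.1
    have := key (k * m * g) (mul_mem (mul_mem hk (h2 hm)) hg) (fun h => hf.2 (by
      rw [mem_inv_smul_finset_iff]
      simpa [e1, e3] using h)) a ha
    rw [Equiv.Perm.mul_apply, Equiv.Perm.mul_apply,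
      (mem_fixOct.1 hm).2 _ (key g hg (e1 ▸ hc') a ha), e2] at this
    exact hc' this
  · have hs : ∀ k ∈ St H (none : GolayPt), k • o = o := fun k hk => (e.le hk).1.2
    obtain ⟨m, hm, h2, ⟨c, hc, e1⟩, h3⟩ := exists_five (fun g hg => hH (mem_St.1 hg).1)
      (h1 ▸ by norm_num) ho hs
    obtain ⟨g, hg, rfl⟩ := ht none c
    have ho' := smul_mem_octads (hH hg) ho
    have h4 := h3 o ho (hs m hm)
    have h5 := h3 _ ho' (smul_of_conj hs hg hm.1 e1)
    have h6 := card_union_add_card_inter (o ∩ Fx m) (g • o ∩ Fx m)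
    have h7 := card_le_card (union_subset (inter_subset_right (s₁ := o) (s₂ := Fx m))
      (inter_subset_right (s₁ := g • o)))
    obtain ⟨d, hd, h8⟩ := exists_mem_ne (s := o ∩ Fx m ∩ (g • o ∩ Fx m)) (by omega) none
    simp only [mem_inter] at hd
    have h9 : o.erase none ⊆ o ∩ g • o := fun f hf => by
      obtain ⟨k, hk, e2, e3, e4⟩ := oct_flag_trans (k := 2) (by norm_num) ho ho hc hc (inj2 h8)
        (inj2 (mem_erase.1 hf).1) (by simp [hd.1.1, hx]) (by simp [(mem_erase.1 hf).2, hx])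
      exact mem_inter.2 ⟨(mem_erase.1 hf).2, (show k d = f from e4 0) ▸ mem_of_smul_eq
        (smul_of_conj hs hg (mem_St.1 (e.ge ⟨⟨hk, e2⟩, e4 1⟩)).1 e3) hd.2.1⟩
    have h10 := card_le_card h9
    rw [card_erase_of_mem hx, ho.2] at h10
    exact hc (octads_eq_of_five ho ho' (by omega) ▸ smul_mem_smul_finset hx)

theorem exists_conj_le {Γ : Type*} [Group Γ] {G H P : Subgroup Γ} [Finite G] (hH : H ≤ G)
    {m p : ℕ} (hp : p.Prime) (hm : Nat.card G = m * Nat.card H) (hpm : ¬ p ∣ m) (hP : P ≤ G)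
    (h : IsPGroup p P) : ∃ g ∈ G, ∀ x ∈ P, g⁻¹ * x * g ∈ H := by
  have := Fact.mk hp
  have h2 : Nat.card (G ⧸ H.subgroupOf G) = m := by
    have h3 := Subgroup.card_eq_card_quotient_mul_card_subgroup (H.subgroupOf G)
    have h4 := Nat.card_congr (Subgroup.subgroupOfEquivOfLe hH).toEquiv
    rw [hm, ← h4] at h3
    exact (Nat.eq_of_mul_eq_mul_right Nat.card_pos h3).symm
  obtain ⟨q, hq⟩ := (h.comap_subtype (K := G)).nonempty_fixed_point_of_prime_not_dvd_card
    (G ⧸ H.subgroupOf G) (h2 ▸ hpm)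
  obtain ⟨g, rfl⟩ := QuotientGroup.mk_surjective q
  refine ⟨g, g.2, fun x hx => ?_⟩
  have h3 : g⁻¹ * (⟨x, hP hx⟩ * g) ∈ H.subgroupOf G := QuotientGroup.eq.1 (hq ⟨⟨x, hP hx⟩, hx⟩).symm
  rw [mul_assoc]; exact h3

/-- unions of orbits of the Sylow `2`-subgroup -/
def sylM (a b c d : Bool) : ℕ := cond a 1 0 + cond b 147456 0 + cond c 46 0 + cond d 8241104 0

theorem syl_inv {O : Finset GolayPt} (hO : ∀ k ∈ syl22, k • O = O) (h : none ∉ O) :
    ∃ a b c d, O = um (sylM a b c d) := by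
  have key : ∀ r ∈ [((14 : ℕ), (147456 : ℕ), (2 : ℕ)), (1, 46, 4), (4, 8241104, 16)],
      ∀ y ∈ um r.2.1, y ∈ O ↔ pt r.1 ∈ O := fun r hr y hy => by
    have h1 := (by decide +kernel : ∀ r ∈ [((14 : ℕ), (147456 : ℕ), (2 : ℕ)), (1, 46, 4),
      (4, 8241104, 16)], gE.enc (pt r.1) = r.1 ∧ r.2.2 ≠ 0 ∧ (um r.2.1).card = r.2.2 ∧
      pt r.1 ∈ um r.2.1 ∧
      bfs (get 5) (mapL (fun c => c) gensSyl22) r.1 20 (fun L _ => lenL L) = r.2.2 ∧
      sumL (fun c => Nat.xor (act (mat c) (mk (um r.2.1))) (mk (um r.2.1))) gensSyl22 = 0) r hr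
    have h2 : syl22 ≤ stabilizer P24 (um r.2.1) := gen_syl22.le _ fun g _ hg =>
      mk_injective (by
        have := xor_eq_zero_iff'.1 (sumL_eq_zero h1.2.2.2.2.2 _ hg); rwa [act_pc] at this)
    obtain ⟨g, hg, rfl⟩ := (isCAct_pt syl22).transitive le_rfl gen_syl22.1 trivial h1.1
      20 h1.2.1 h1.2.2.2.2.1 (S := um r.2.1) (Set.toFinite _) (by rw [Set.ncard_coe_finset, h1.2.2.1])
      (fun g hg => mem_of_smul_eq (h2 hg) h1.2.2.2.1) y hy
    exact mem_iff_of_smul_eq (hO g hg) _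
  refine ⟨decide (pt 0 ∈ O), decide (pt 14 ∈ O), decide (pt 1 ∈ O), decide (pt 4 ∈ O),
    Finset.ext fun y => ?_⟩
  have h1 := (by decide +kernel : ∀ y : GolayPt, ∀ a b c d, (y ∈ um (sylM a b c d) ↔
    (y = pt 0 ∧ a) ∨ (y ∈ um 147456 ∧ b) ∨ (y ∈ um 46 ∧ c) ∨ (y ∈ um 8241104 ∧ d))) y
  have h2 := (by decide +kernel : ∀ y : GolayPt,
    y = none ∨ y = pt 0 ∨ y ∈ um 147456 ∨ y ∈ um 46 ∨ y ∈ um 8241104) y
  have k1 := key (14, 147456, 2) (by simp) y
  have k2 := key (1, 46, 4) (by simp) y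
  have k3 := key (4, 8241104, 16) (by simp) y
  simp only [h1, decide_eq_true_eq]
  constructor
  · intro hy
    rcases h2 with rfl | rfl | e | e | e
    exacts [(h hy).elim, .inl ⟨rfl, hy⟩, .inr (.inl ⟨e, (k1 e).1 hy⟩),
      .inr (.inr (.inl ⟨e, (k2 e).1 hy⟩)), .inr (.inr (.inr ⟨e, (k3 e).1 hy⟩))]
  · rintro (⟨rfl, e⟩ | e | e | e)
    exacts [e, (k1 e.1).2 e.2, (k2 e.1).2 e.2, (k3 e.1).2 e.2]

theorem tetrad_sextet {H : Subgroup P24} (hH : H ≤ M24) (ht : ∀ x y : GolayPt, ∃ g ∈ H, g x = y)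
    {x : GolayPt} (h1 : Nat.card (St H x) = 5760) {s : Finset GolayPt} (hx : x ∉ s) (hc : s.card = 3)
    (hs : ∀ k ∈ St H x, k • s = s) : ∃ S ∈ sextets, H ≤ St M24 S := by
  have hT : (insert x s).card = 4 := by rw [card_insert_of_notMem hx, hc]
  obtain ⟨S, hS, hTS⟩ := exists_sextet hT
  obtain ⟨L, hL, hL', a, ha, e⟩ := card_split_le (St_le_fix hH x) hs
  rw [← insert_eq] at hL
  have h0 : Nat.card (fixOct (insert x s)) = 960 := card_fix (by norm_num) _ hT
  have h2 : fixOct (insert x s) ≤ H := ((Subgroup.eq_of_le_of_card_ge hL (by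
    have := Nat.le_of_dvd (by norm_num) (show a ∣ 6 by rwa [hc] at ha)
    rw [h0]; rw [h1] at e; nlinarith)).ge.trans hL').trans inf_le_left
  have h3 : ∀ k ∈ St H x, k • insert x s = insert x s := fun k hk =>
    (smul_insert_of (St_le_fix hH x) hs hk).1.2
  generalize hT' : insert x s = T at *
  have hxT : x ∈ T := hT' ▸ mem_insert_self _ _
  have k1 : ∀ g ∈ H, g x ∈ T → g • T = T := fun g hg h4 => by
    refine eq_of_subset_of_card_le (fun d hd => by_contra fun h5 => ?_) (card_smul_finset _ _).ge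
    obtain ⟨f, hf⟩ := exists_not_mem_of_card_lt (s := T ∪ g • T)
      ((card_union_le _ _).trans_lt (by rw [card_smul_finset]; omega))
    rw [mem_union, not_or] at hf
    obtain ⟨m, hm, e'⟩ := fix_move hT.le h5 hf.1
    exact hf.2 (e' ▸ mem_of_smul_eq (smul_of_conj h3 hg (h2 hm) ((mem_fixOct.1 hm).2 _ h4)) hd)
  refine ⟨S, hS, fun g hg => ⟨hH hg, sextet_unique (smul_mem_sextets (hH hg) hS) hS
    (smul_mem_smul_fam.2 hTS) ?_⟩⟩
  by_cases h4 : g x ∈ T
  · rwa [k1 g hg h4]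
  obtain ⟨o, ho, h5⟩ := inOct_of_card_le (s := insert (g x) T) (by rw [card_insert_of_notMem h4, hT])
  have h6 := (subset_insert _ _).trans h5
  rw [eq_of_subset_of_card_le (s := g • T) (t := o \ T) (fun d hd => mem_sdiff.2 ⟨by_contra fun h7 => ?_,
    fun h7 => ?_⟩) (by rw [card_sdiff_of_subset h6, card_smul_finset, ho.2, hT])]
  · exact sdiff_mem_sextet hS hTS ho h6
  · obtain ⟨f, hf⟩ := exists_not_mem_of_card_lt (s := o ∪ g • T)
      ((card_union_le _ _).trans_lt (by rw [card_smul_finset, ho.2]; omega))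
    rw [mem_union, not_or] at hf
    obtain ⟨m, hm, e'⟩ := fixOct_trans ho h7 hf.1
    exact hf.2 (e' ▸ mem_of_smul_eq (smul_of_conj h3 hg (h2 (mem_fixOct.2 ⟨hm.1, fun a ha =>
      (mem_fixOct.1 hm).2 a (h6 ha)⟩)) ((mem_fixOct.1 hm).2 _ (h5 (mem_insert_self _ _)))) hd)
  · obtain ⟨k, hk, rfl⟩ := ht x d
    have h8 := k1 (g⁻¹ * k) (mul_mem (inv_mem hg) hk) (inv_smul_mem_iff.2 hd)
    rw [mul_smul, k1 k hk h7, inv_smul_eq_iff] at h8
    exact h4 (h8 ▸ smul_mem_smul_finset hxT)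

theorem idx1771 {H : Subgroup P24} (hH : H ≤ M24) (h : Nat.card H = 138240) :
    ∃ S ∈ sextets, H = St M24 S := by
  suffices key : ∀ H ≤ M24, Nat.card H = 138240 → syl22 ≤ H → ∃ S ∈ sextets, H ≤ St M24 S by
    obtain ⟨g, hg, e⟩ := exists_conj_le hH Nat.prime_two (m := 1771) (by rw [card_M24, h])
      (by norm_num) (P := syl22) (fun g hg => hg.1.1.1) (IsPGroup.of_card (n := 7) card_syl22)
    obtain ⟨S, hS, e'⟩ := key (H.map (MulAut.conj g).toMonoidHom) (by
      rintro _ ⟨k, hk, rfl⟩; exact mul_mem (mul_mem hg (hH hk)) (inv_mem hg))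
      (by rw [Subgroup.card_map_of_injective (MulEquiv.injective _), h])
      fun x hx => ⟨_, e x hx, by simp [mul_assoc]⟩
    have hS' := smul_mem_sextets (inv_mem hg) hS
    refine ⟨_, hS', Subgroup.eq_of_le_of_card_ge (fun k hk => mem_St.2 ⟨hH hk, ?_⟩)
      (by rw [card_St_sextet hS', h])⟩
    rw [eq_inv_smul_iff, ← mul_smul, ← mul_smul]
    exact (e' ⟨k, hk, rfl⟩).2
  intro H hH h hP
  have ht := trans24 hH h (m := 1771) (by norm_num) (by norm_num) (by decide +kernel)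
  have h0 := card_St_trans ht (N := 5760) h
  have h1 := h0 none
  have hK := St_le_fix hH none
  have h2 : ∀ y ≠ none, ∃ a b c d, orbF (St H (none : GolayPt)) y = um (sylM a b c d) ∧
      y ∈ um (sylM a b c d) ∧ (um (sylM a b c d)).card ∣ 5760 ∧
      ∀ k ∈ St H (none : GolayPt), k • um (sylM a b c d) = um (sylM a b c d) := fun y hy => by
    obtain ⟨a, b, c, d, e⟩ := syl_inv (O := orbF (St H (none : GolayPt)) y)
      (fun k hk => smul_orbF _ ⟨hP hk, hk.1.1.2⟩) fun h => by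
        obtain ⟨k, hk, e⟩ := mem_orbF.1 h
        exact hy (k.injective (e.trans hk.2.symm))
    exact ⟨a, b, c, d, e, e ▸ mem_orbF.2 ⟨1, one_mem _, rfl⟩, dvd_of_orbF e h1 rfl,
      fun k hk => e ▸ smul_orbF _ hk⟩
  have h3 : ∀ {F s : Finset GolayPt}, St H (none : GolayPt) ≤ fixOct F →
      (∀ k ∈ St H (none : GolayPt), k • s = s) → F ∪ s ⊆ oct0 → 6 ≤ (F ∪ s).card →
      ¬ s.card ≤ 5 := fun hF hs a b c => by
    obtain ⟨L, hL, -, a', ha, e⟩ := card_split_le hF hs
    have := Nat.mul_le_mul ((Nat.le_of_dvd (Nat.factorial_pos _) ha).trans (Nat.factorial_le c))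
      (Nat.le_of_dvd (by norm_num) (card_le_sixteen oct0_mem a b hL))
    exact absurd (h1.symm.trans_le (e.trans_le this)) (by decide)
  obtain ⟨a, b, c, d, e1, e2, e3, e4⟩ := h2 (pt 0) (by decide +kernel)
  rcases (by decide +kernel : ∀ a b c d, pt 0 ∈ um (sylM a b c d) → (um (sylM a b c d)).card ∣ 5760 →
    sylM a b c d = 1 ∨ sylM a b c d = 147457 ∨ sylM a b c d = 47) a b c d e2 e3 with e | e | e <;>
    rw [e] at e1 e4
  rotate_left
  · exact tetrad_sextet hH ht h1 (by decide +kernel) (by decide +kernel) e4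
  · exact (h3 hK e4 (by decide +kernel) (by decide +kernel) (by decide +kernel)).elim
  have h4 : ∀ k ∈ St H (none : GolayPt), k (pt 0) = pt 0 := fun k hk =>
    (by decide +kernel : ∀ y ∈ um 1, y = pt 0) _ (mem_of_smul_eq (e4 k hk) (by decide +kernel))
  have hK' : St H (none : GolayPt) ≤ fixOct (insert (pt 0) {none}) :=
    fun k hk => (St_fix _ _).le ⟨hK hk, h4 k hk⟩
  obtain ⟨a, b, c, d, f1, f2, f3, f4⟩ := h2 (pt 1) (by decide +kernel)
  have h5 : pt 0 ∉ um (sylM a b c d) := fun h => by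
    obtain ⟨k, hk, e⟩ := mem_orbF.1 (f1 ▸ h)
    exact absurd (k.injective (e.trans (h4 k hk).symm)) (by decide +kernel)
  rcases (by decide +kernel : ∀ a b c d, pt 1 ∈ um (sylM a b c d) → (um (sylM a b c d)).card ∣ 5760 →
    pt 0 ∉ um (sylM a b c d) → sylM a b c d = 46 ∨ sylM a b c d = 8241150 ∨ sylM a b c d = 147502)
    a b c d f2 f3 h5 with e | e | e <;> rw [e] at f4
  · exact (h3 hK' f4 (by decide +kernel) (by decide +kernel) (by decide +kernel)).elim
  · refine tetrad_sextet hH ht h1 (s := {none}ᶜ \ um 8241150) (by decide +kernel) (by decide +kernel)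
      fun k hk => ?_
    rw [smul_finset_sdiff, fix_smul k (hK hk), f4 k hk]
  exfalso
  have h6 : insert (pt 0) {none} ∪ um 147502 = oct0 := by decide +kernel
  obtain ⟨L, hL, hL', a', ha, e'⟩ := card_split_le hK' f4
  obtain ⟨⟨u, hu⟩, h7⟩ := Subgroup.ne_bot_iff_exists_ne_one.1 (show L ≠ ⊥ by
    rintro rfl
    rw [Subgroup.card_bot, mul_one, h1] at e'
    rw [← e'] at ha
    exact absurd ha (by decide +kernel))
  rw [h6] at hL
  obtain ⟨m, hm, h8, ⟨c, hc, e5⟩, h9⟩ := exists_five (K := St H (none : GolayPt))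
    (fun g hg => hH hg.1) (by rw [h1]; norm_num) oct0_mem fun k hk => by
      rw [← h6, smul_finset_union, smul_eq_of_fix (mem_fixOct.1 (hK' hk)).2, f4 k hk]
  obtain ⟨g, hg, rfl⟩ := ht none c
  have h10 : St H (g none) ≤ St H (g (pt 0)) := fun k hk => ⟨hk.1, by
    simpa using smul_of_conj (s := {pt 0}) (fun k hk => by simpa using h4 k hk) hg hk.1 hk.2⟩
  by_cases h11 : g (pt 0) ∈ oct0
  · exact h7 (Subtype.ext (eq_one_of_fix_oct oct0_mem hc (hL hu).1 (mem_fixOct.1 (hL hu)).2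
      ((Subgroup.eq_of_le_of_card_ge h10 (by rw [h0, h0])).ge
        ⟨(hL' hu).1, (mem_fixOct.1 (hL hu)).2 _ h11⟩).2))
  · have h12 := h9 _ oct0_mem (by
      rw [← h6, smul_finset_union, smul_eq_of_fix (mem_fixOct.1 (hK' hm)).2, f4 m hm])
    have h13 := card_le_card (s := insert (g (pt 0)) (insert (g none) (oct0 ∩ Fx m))) (t := Fx m)
      (insert_subset (mem_Fx.2 (h10 ⟨hm.1, e5⟩).2) (insert_subset (mem_Fx.2 e5) inter_subset_right))
    rw [card_insert_of_notMem (by
      simp only [mem_insert, mem_inter, h11, false_and, or_false, EmbeddingLike.apply_eq_iff_eq]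
      decide +kernel), card_insert_of_notMem fun h => hc (mem_inter.1 h).1] at h13
    omega

end Cfsg.Agent.Golay
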