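import Mathlib
import Cfsg.Agent.Golay.Index

/-! `M22` has no subgroup of index 56. -/

set_option autoImplicit false

namespace Cfsg.Agent.Golay

open MulAction Finset
open scoped Pointwise

/-- the hexads, by orbits of an element of order 11 -/
def tH : ℕ := 0xa2c281d98081a88d01ea0031f04805c20c839298219a4441b004a9c0e4218c48a18a1189b0a051cc040da02a23c75001900bc1838419982125a44413c012a581c8438ea003bc1201e10641c10929826911960095908607891423a05161c040d980a88d88d015a800c7e0900bc83841a60849d22209952c018607219142318145858081b38320e194c109882691a58025c84303a11891c2814598081ba23405d40063805e0984303984624585028b81b3018d0151a0031dc1201784190782125391104d80254b82402f9070838494c1888269a96009e42181c48a118b0a05b30103d01511800c75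

/-- exponents -/
def tEx : ℕ := 0x1606958575655545150594847464544414049383736353431303a2928272625242221202a1918171615141211101a090807060504030201000

/-- invariants of images of the orbits -/
def tV : ℕ := 0x718de427d858b4356b873612f4c5114520b5a16f433cf59d8350af364dbb47f0b3655157fc64955f4953a5376156c695bbe23a5c03dfdf513b056ff441c174a1d84f765696f455ce74c2152b9f950e076e1d347036576c6427dd647fe4fec13fdf946c2f5e48d4f27a562fe5ab624ffde530172a0c866e07462a75109f372b74c0d64e11556c61562af5bb7a5b6326253836b1d577f3519c353b1239c7c4bd226877053243529f15a4b338e9e3dbb44f9c95a5174c07773f4343d2338c41447cd426d36753059a6357c514ba6b4ad68395415a5ae58f26427c7578a7331a45d63a4d2ab5733b4d85c589404207b5acf85d520338615e86137a1a49b03519e45798b4086f6166f391cc5bce14fdb05aae3461ea557e44febd44f3b5c6ff53335488bd545216c0932d7eb559c552c474dd524d44b464e44d59853da655005455b043e9069a3051c1c59f89375b13dabb38f705baae764a643ec050b2f4dc5d4351d5b04351484774c42ccf74c67f4adad3f4cb4913d5005b72b46454df5ad343fc0f61dcf54a8b3e55e4840a587284f4dc46205616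2e343925b1645382d51c15462274ee3e43fb7386bb59fd44ea564fbc36543650f3643a2446548409805b620566b75a98054088490d04573e51dbc68e39448115dda93f60e5cb043e6be54c764a8755cde4353345e8066042259c8e501f849f2d67ba734f2d3a3224e3595678d4eb694de5e3ceae54f4457d2c5fe6a371ea4d9034b75747d805b62b57b725f7ee423f75dd4c593484da9a4a61b3a29d4bdb6316ab604735ea643c566646324e0fb319ff5e7bc55d1862ac84c2dd3b6215ad324583c3b6fd5ae215ede859afd4ef6a47a2255ae24bd0b50d185deaf4e269504a73c50751b1d72e695a7793f7a4333d0597ff3fb5957a833cc324290953d1a45bd562b0957c153b9a0389fc43e6a5adb970bcb4b88a5bbb73755a58fb247c9b5c74950e6550f24549524bd264ab534bfd94c296547014aab55d32d463a9542d0434d74c2b644627585fb645a34cd5e592cb402b53e22e6022953e5252a4453afd53d4c592d2529745e898398a13fa0352ba44471b5e8d45fb92432503f98552cd15e3035f4625931344ce842d74530f239a055e6c146fba3fb804408c507c05345c5e12862aaa568234417f53bbf5c7ad401133d7005ab35630fe2e24f4c3604884c5452f5606e5741e520ce3ac7e4d178566de4d46f5619c5c861500b0690453de064a9e8554e6379a1423fb5536d528e43e64d4266a656bf5ac094f249473b34f12439a20616b45a9054fed248ace5d88e46269450286100c4aa0d4dfc5636a24b7b5538713fabc3c3ae558e2571b74734a67b87387e63c9eb512cd70d8244eda44f696945a6632a3e5684a28436be157511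

def hexE (p : Fin 7 × Fin 11) : Finset GolayPt := um (get 24 tH (11 * p.1 + p.2))

noncomputable def cI (i : ℕ) : ℕ :=
  mul (mul (pw 983435072843990828779021698901151808 (get 4 tEx (2 * i)))
    972434450889351042297873639215315232)
  (mul (pw 983435072843990828779021698901151808 (get 4 tEx (2 * i + 1)))
    972434450889351042297873639215315232)

theorem hexE_inj : Function.Injective hexE := fun p q h => by
  have := congrArg mk h
  rw [hexE, hexE, mk_um_get, mk_um_get] at this
  revert p q; decide +kernel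

theorem hexE_surj {o : Finset GolayPt} (ho : o ∈ octads) (h : um 8388609 ⊆ o) : ∃ p, hexE p = o := by
  have := enum_octads.forall_zero (fun c => if Nat.land 8388609 c = 8388609 →
    ∃ p : Fin 7 × Fin 11, get 24 tH (11 * p.1 + p.2) = c then 0 else 1) (by decide +kernel) o ho
  obtain ⟨p, e⟩ : ∃ p : Fin 7 × Fin 11, get 24 tH (11 * p.1 + p.2) = mk o := by
    by_contra h1
    rw [if_neg fun h2 => h1 (h2 (by
      rw [subset_iff_mk, mk_um (by norm_num)] at h; exact h))] at this
    exact one_ne_zero this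
  exact ⟨p, by rw [hexE, e, um_mk]⟩

theorem no7920 {K : Subgroup P24} (hK : K ≤ Spor.M22) : Nat.card K ≠ 7920 := by
  obtain ⟨β, hβ, eβ⟩ := in_gensM22 _ List.mem_cons_self
  obtain ⟨z, hz, ez⟩ := in_gensM22 _ (List.mem_cons_of_mem _ List.mem_cons_self)
  suffices key : ∀ K ≤ Spor.M22, β ∈ K → Nat.card K ≠ 7920 by
    intro h
    obtain ⟨g, hg, e⟩ := exists_conj_mem hK (m := 56) (p := 11) (by norm_num) (by rw [card_M22, h])
      (by norm_num) hβ (k := 1) (pc_injective (by rw [← pw_pc, eβ, pc_one]; decide +kernel))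
    exact key (K.map (MulAut.conj g⁻¹).toMonoidHom) (by
      rintro _ ⟨k, hk, rfl⟩; exact mul_mem (mul_mem (inv_mem hg) (hK hk)) (inv_mem (inv_mem hg)))
      ⟨_, e, by simp [mul_assoc]⟩ (by rw [Subgroup.card_map_of_injective (MulEquiv.injective _), h])
  intro K hK hb h
  classical
  let J : Fin 7 → Bool := fun j => decide (hexE (j, 0) ∈ orbit K (hexE 0))
  let S := (univ.filter fun p : Fin 7 × Fin 11 => J p.1).image hexE
  have h1 : ∀ p : Fin 7 × Fin 11, β ^ (p.2 : ℕ) • hexE (p.1, 0) = hexE p := fun p => by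
    rw [← mk_inj, ← act_pc, ← pw_pc, eβ, hexE, hexE, mk_um_get, mk_um_get]
    revert p; decide +kernel
  have h2 : (S : Set (Finset GolayPt)) = orbit K (hexE 0) := by
    have h3 : ∀ p, J p.1 ↔ hexE p ∈ orbit K (hexE 0) := fun p => by
      rw [← h1 p, decide_eq_true_iff]
      refine ⟨fun h => ?_, fun h => ?_⟩ <;> obtain ⟨k, hk, e⟩ := mem_orbit_iff'.1 h
      · exact mem_orbit_iff'.2 ⟨_, mul_mem (pow_mem hb p.2) hk, by rw [mul_smul, e]⟩
      · exact mem_orbit_iff'.2 ⟨_, mul_mem (inv_mem (pow_mem hb p.2)) hk, by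
          rw [mul_smul, e, inv_smul_smul]⟩
    ext o
    simp only [S, coe_image, coe_filter, mem_univ, true_and, Set.mem_image, Set.mem_ofPred_eq, h3]
    refine ⟨fun ⟨p, a, e⟩ => e ▸ a, fun ho => ?_⟩
    obtain ⟨k, hk, rfl⟩ := mem_orbit_iff'.1 ho
    obtain ⟨p, e⟩ := hexE_surj (smul_mem_octads (hK hk).1.1 (s := hexE 0)
      ((octErr_mk _).1 (by rw [hexE, mk_um_get]; decide +kernel))) (by
        rw [← smul_eq_of_fix (g := k) (F := um 8388609) fun a ha => by
          rcases (by decide +kernel : ∀ a ∈ um 8388609, a = none ∨ a = some 0) a ha with rfl | rfl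
          exacts [(hK hk).1.2, (hK hk).2]]
        exact smul_finset_subset_smul_finset (by decide +kernel))
    exact ⟨p, e ▸ ho, e⟩
  have h3 : K ≤ St Spor.M22 S := fun k hk => ⟨hK hk, coe_injective (by
    rw [coe_smul_finset, h2]; exact smul_orbit (⟨k, hk⟩ : K) _)⟩
  have h4 : ∃ j, J j = false := by
    by_contra h4
    have h5 := card_eq_orbit_mul K (hexE 0)
    rw [← h2, Set.ncard_coe_finset, card_image_of_injective _ hexE_inj, filter_true_of_mem
      fun p _ => by simpa using not_exists.1 h4 p.1, h] at h5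
    simp only [card_univ, Fintype.card_prod, Fintype.card_fin] at h5
    omega
  let g : ℕ → P24 := fun i => β ^ get 4 tEx (2 * i) * z * (β ^ get 4 tEx (2 * i + 1) * z)
  have h5 : ∀ i < 57, ∑ t ∈ g i • S, mk t * mk t % 65521 =
      ∑ j, if J j then get 20 tV (7 * i + j) else 0 := fun i hi => by
    have h6 := (by decide +kernel : ∀ i < 57, force (mat (cI i)) (fun G => decide (∀ j : Fin 7,
      ∑ k : Fin 11, force (act G (get 24 tH (11 * j + k))) (fun y => y * y % 65521) =
        get 20 tV (7 * i + j))) = true) i hi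
    have h7 : cI i = pc (g i) := by rw [cI, ← eβ, ← ez, pw_pc, pw_pc, mul_pc, mul_pc, mul_pc]
    simp only [force_eq, decide_eq_true_eq, h7] at h6
    rw [smul_finset_def, sum_image (MulAction.injective _).injOn, sum_image hexE_inj.injOn,
      sum_filter, Fintype.sum_prod_type]
    refine sum_congr rfl fun j _ => ?_
    split_ifs
    · rw [← h6 j]
      exact sum_congr rfl fun k _ => by rw [← act_pc, hexE, mk_um_get]
    · simp
  have h6 := (by decide +kernel : ∀ J : Fin 7 → Bool, J 0 = true → (∃ j, J j = false) →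
    forceL (mapL (fun i => ∑ j, if J j then get 20 tV (7 * i + j) else 0) (List.range 57))
      (fun L => decide L.Nodup) = true) J (decide_eq_true (mem_orbit_self _)) h4
  rw [forceL_eq, mapL_eq, decide_eq_true_eq, List.nodup_map_iff_inj_on List.nodup_range] at h6
  have h7 : 57 ≤ (orbit Spor.M22 S).ncard := by
    rw [← card_range 57, ← Set.ncard_coe_finset]
    refine Set.ncard_le_ncard_of_injOn (fun i => g i • S) (fun i _ => mem_orbit_iff'.2
      ⟨_, mul_mem (mul_mem (pow_mem hβ _) hz) (mul_mem (pow_mem hβ _) hz), rfl⟩) fun i hi j hj e => ?_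
    rw [coe_range, Set.mem_Iio] at hi hj
    refine h6 i (List.mem_range.2 hi) j (List.mem_range.2 hj) ?_
    rw [← h5 i hi, ← h5 j hj, show g i • S = g j • S from e]
  have h8 := Nat.mul_le_mul h7 (h ▸ Subgroup.card_le_of_le h3)
  rw [← card_eq_orbit_mul, card_M22] at h8
  omega

end Cfsg.Agent.Golay
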