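import Mathlib
import Cfsg.Agent.Golay.Loc

/-!
The structure of the trio and sextet stabilisers.
-/

namespace Cfsg.Agent.Golay

open MulAction Finset
open scoped Pointwise Matrix

/-- the octads of the standard trio -/
def tblOct3 (i : Fin 3) : ℕ := [337856, 7903248, 8536111].getD i.val 0

/-- the sextets refining the standard trio -/
def tblSex7 (v : Fin 3 → ZMod 2) : ℕ := [21851656918626858752329617932230792780785600,
  11172157898587740639779818102986437847745920, 11150387722154438044499046504969320890639680,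
  11324641575652839040024170371860777698082830, 11324613454659843396271567844159595460167360,
  11150423486532947792874164732049264467837760, 11172204297114735201797565455274081750360960,
  11346378319048940866623047481557647318057005].getD (vIdx v) 0

/-- a frame for the trio stabiliser -/
abbrev trioFrame := (um (tblOct3 0), um (tblOct3 1), fd 6 (tblSex7 ![1, 0, 0]),
  fd 6 (tblSex7 ![0, 1, 0]), fd 6 (tblSex7 ![0, 0, 1]))

theorem tblSex7_ok : ∀ v, FOk 6 (tblSex7 v) := by decide +kernel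

theorem card_trioKer : Nat.card (St (St M24 trio0) trioFrame) = 64 := by
  have h : ∀ F : Finset (Finset GolayPt), F.card = 6 → fc F < 2 ^ 144 := fun F hF => by
    simpa [hF] using fc_lt F
  refine card_inf_stabilizer (card_St_trio trio0_mem) (((isCAct_mk M24).prod ((isCAct_mk M24).prod
    ((isCAct_fc M24 6).prod ((isCAct_fc M24 6).prod (isCAct_fc M24 6) h) h) (w := 24)
    fun x _ => mk_lt x) (w := 24) fun x _ => mk_lt x).ncard_orbit_eq inf_le_left gen_Trio
    ⟨trivial, trivial, (tblSex7_ok _).card, (tblSex7_ok _).card, (tblSex7_ok _).card⟩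
    (c0 := tblOct3 0 + 2 ^ 24 * (tblOct3 1 + 2 ^ 24 * (tblSex7 ![1, 0, 0] + 2 ^ 144 *
      (tblSex7 ![0, 1, 0] + 2 ^ 144 * tblSex7 ![0, 0, 1])))) ?_ 1010 (N := 1008) (by norm_num)
    (by decide +kernel)) (by norm_num) rfl
  simp only [(tblSex7_ok _).fc_fd]
  rw [mk_um (by decide), mk_um (by decide)]

theorem trioKer_sq : ∀ x ∈ St (St M24 trio0) trioFrame, x * x = 1 := by
  have hgen : Gen pc (St (St M24 trio0) trioFrame) [149456884794218476575270321874781185,
      130598015864044605928878311064978433, 596654586964194827611761938870207010,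
      732588443313253837546820188203191749, 237127486333460923385827361926087761,
      734318473180410770151885310553820613] := by
    refine gen_of_chain ?_ card_trioKer [(0, 8536111, 1, [[4, 4, 5, 3], [0, 3, 1, 3],
      [2, 3, 4, 5, 0]]), (4, 7903248, 1, [])] (by decide +kernel)
    rw [St_St]
    exact ((fixTest_fd cTrio_ok).prod ((fixTest_um (by decide)).prod ((fixTest_um (by decide)).prod
      ((fixTest_fd (tblSex7_ok _)).prod ((fixTest_fd (tblSex7_ok _)).prod
      (fixTest_fd (tblSex7_ok _))))))).in_St (by decide +kernel)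
  intro x hx
  have := forall_mem_of_bfs hgen 70 (fun c => Nat.xor (mul c c) one) (by decide +kernel) x hx
  rw [mul_pc, xor_eq_zero_iff', ← pc_one, pc_inj] at this; exact this

theorem trio_hom : ∃ φ : St M24 trio0 →* GL (Fin 3) (ZMod 2) × Equiv.Perm (Fin 3),
    Function.Surjective φ ∧ (∀ x, φ x = 1 → x * x = 1) ∧
      ∀ x i, x.1 • um (tblOct3 i) = um (tblOct3 ((φ x).2 i)) := by
  have h0 := fd_spec tblSex7_ok
  have h1 := um_spec (tbl := tblOct3) (by decide)
  obtain ⟨φ, hφ⟩ := gen_Trio.exists_hom_GL _ ((isCAct_fc M24 6).inj_tbl h0 (by decide +kernel))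
    ((isCAct_fc M24 6).equivariant' inf_le_left h0 Matrix.mulVec
      [!![0, 0, 1; 1, 0, 0; 0, 1, 0], !![1, 1, 0; 1, 1, 1; 1, 0, 1]] rfl (by decide +kernel))
  obtain ⟨ψ, hψ⟩ := gen_Trio.exists_hom (T := Equiv.Perm (Fin 3)) (V := Fin 3)
    (fun _ _ => Equiv.ext) _ ((isCAct_mk M24).inj_tbl h1 (by decide +kernel))
    ((isCAct_mk M24).equivariant' inf_le_left h1 (· • ·) [Equiv.swap 0 2, Equiv.swap 1 2] rfl
      (by decide +kernel))
  have h2 : ∀ x, φ.prod ψ x = 1 → x.1 ∈ St (St M24 trio0) trioFrame := fun x hx => by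
    have h3 := hφ x
    have h4 := hψ x
    simp only [show φ x = 1 from congrArg Prod.fst hx, Units.val_one, Matrix.one_mulVec] at h3
    simp only [show ψ x = 1 from congrArg Prod.snd hx, one_smul] at h4
    exact mem_St.2 ⟨x.2, Prod.ext (h4 _) (Prod.ext (h4 _) (Prod.ext (h3 _) (Prod.ext (h3 _) (h3 _))))⟩
  refine ⟨φ.prod ψ, surjective_of_card_ker _ (k := 64) (by
    rw [card_St_trio trio0_mem, Nat.card_prod, card_GL32, Nat.card_perm, Nat.card_fin]; rfl) ?_,
    fun x hx => Subtype.ext (trioKer_sq _ (h2 x hx)), hψ⟩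
  rw [← card_trioKer, ← Subgroup.card_map_of_injective (Subgroup.subtype_injective _)]
  refine Subgroup.card_le_of_le ?_
  rintro _ ⟨x, hx, rfl⟩
  exact h2 x hx

/-- the permutations induced on a family -/
theorem exists_induced {F0 F : Finset (Finset GolayPt)} {k : P24} (hk : k ∈ M24) (e : k • F0 = F)
    {n : ℕ} {t : Fin n → Finset GolayPt} (ht : Function.Injective t) (h0 : univ.image t = F0)
    (h : ∀ σ : Equiv.Perm (Fin n), ∃ g ∈ M24, ∀ i, g • t i = t (σ i)) (σ : Equiv.Perm F) :
    ∃ g ∈ stabilizer M24 F, ∀ o : F, (g : P24) • (o : Finset GolayPt) = σ o := by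
  have h1 : ∀ i, k • t i ∈ F := fun i => e ▸ h0 ▸ smul_mem_smul_fam.2 (by simp)
  let τ : Fin n ≃ F := Equiv.ofBijective (fun i => ⟨_, h1 i⟩) ⟨fun i j e' =>
    ht (MulAction.injective k (congrArg Subtype.val e')), fun o => by
      obtain ⟨o, ho⟩ := o
      subst e h0
      obtain ⟨_, h2, rfl⟩ := mem_smul_finset.1 ho
      obtain ⟨i, -, rfl⟩ := mem_image.1 h2
      exact ⟨i, rfl⟩⟩
  obtain ⟨g, hg, h2⟩ := h ((τ.trans σ).trans τ.symm)
  have h3 : ∀ o : F, (k * g * k⁻¹) • (o : Finset GolayPt) = σ o := fun o => by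
    obtain ⟨i, rfl⟩ := τ.surjective o
    show (k * g * k⁻¹) • k • t i = _
    rw [mul_smul, mul_smul, inv_smul_smul, h2]
    exact congrArg Subtype.val (τ.apply_symm_apply (σ (τ i)))
  refine ⟨⟨_, M24.mul_mem (M24.mul_mem hk hg) (M24.inv_mem hk)⟩, ?_, h3⟩
  refine eq_of_subset_of_card_le (fun a ha => ?_) (card_smul_finset (k * g * k⁻¹) F).ge
  obtain ⟨b, hb, rfl⟩ := mem_smul_finset.1 ha
  exact (show _ = _ from h3 ⟨b, hb⟩) ▸ (σ ⟨b, hb⟩).2

/-- the tetrads of the standard sextet -/
def tblTet (i : Fin 6) : ℕ := get 24 cSex i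

/-- the kernel of the action on the tetrads -/
abbrev sexKer : Subgroup P24 := St (St M24 sex0) fun i => um (tblTet i)

theorem card_sexKer : Nat.card sexKer = 192 := by
  refine card_inf_stabilizer (card_St_sextet sex0_mem) ((isCAct_tup M24 6).ncard_orbit_eq
    inf_le_left gen_Sex trivial (c0 := cSex) ?_ 730 (N := 720) (by norm_num)
    (by decide +kernel)) (by norm_num) rfl
  refine Eq.trans (pack_congr fun i hi => ?_) (pack_get (w := 24) (n := 6) (by norm_num)
    (by decide +kernel))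
  rw [dif_pos hi]; exact mk_um_get _ _

theorem mem_sexKer {g : P24} : g ∈ sexKer ↔ g ∈ M24 ∧ ∀ t ∈ sex0, g • t = t := by
  rw [mem_St, mem_St, funext_iff]
  refine ⟨fun h => ⟨h.1.1, fun t ht => ?_⟩, fun h => ⟨⟨h.1, ?_⟩, fun i => h.2 _
    (mem_fd.2 ⟨i, i.2, rfl⟩)⟩⟩
  · obtain ⟨i, hi, rfl⟩ := mem_fd.1 ht
    exact h.2 ⟨i, hi⟩
  · refine eq_of_subset_of_card_le (fun a ha => ?_) (card_smul_finset _ _).ge
    obtain ⟨b, hb, rfl⟩ := mem_smul_finset.1 ha
    rw [h.2 b hb]; exact hb

theorem gen_sexKer : Gen pc sexKer [222839690624156282810028779282433120,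
    222848521963869917746636076779308099, 735467570877421557717355722545563745,
    735585295266475675969640825324930050] := by
  refine gen_of_chain (fun c hc => ?_) card_sexKer [(1, 15, 1, [[2, 1, 3, 0], [0, 0, 2],
    [0, 1, 2, 3]]), (0, 13, 1, [[0, 0, 1, 1], [0, 2, 2], [1, 1, 0, 0], [1, 2]]),
    (4, 5264, 1, [[0, 2, 2, 1], [0, 0, 2, 3]]), (5, 8536096, 1, [])] (by decide +kernel)
  obtain ⟨g, hg, rfl⟩ := in_M24 (by decide +kernel) c hc
  refine ⟨g, mem_sexKer.2 ⟨hg, fun t ht => ?_⟩, rfl⟩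
  obtain ⟨i, hi, rfl⟩ := mem_fd.1 ht
  rw [← mk_inj, ← act_pc, mk_um_get]
  generalize pc g = c at hc
  revert c i; decide +kernel

theorem sex_hom : ∀ σ : Equiv.Perm (Fin 6), ∃ g ∈ M24, ∀ i, g • um (tblTet i) = um (tblTet (σ i)) := by
  have h1 := um_spec (tbl := tblTet) (by decide +kernel)
  obtain ⟨ψ, hψ⟩ := gen_Sex.exists_hom (T := Equiv.Perm (Fin 6)) (V := Fin 6)
    (fun _ _ => Equiv.ext) _ ((isCAct_mk M24).inj_tbl h1 (by decide +kernel))
    ((isCAct_mk M24).equivariant' inf_le_left h1 (· • ·) [Equiv.swap 0 2 * Equiv.swap 1 2 * Equiv.swap 2 5, Equiv.swap 0 2 * Equiv.swap 1 3 * Equiv.swap 3 5 * Equiv.swap 4 5] rfl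
      (by decide +kernel))
  intro σ
  obtain ⟨g, rfl⟩ := surjective_of_card_ker ψ (k := 192) (by
    rw [card_St_sextet sex0_mem, Nat.card_perm, Nat.card_fin]; rfl) (by
      rw [← card_sexKer, ← Subgroup.card_map_of_injective (Subgroup.subtype_injective _)]
      refine Subgroup.card_le_of_le ?_
      rintro _ ⟨x, hx, rfl⟩
      exact mem_St.2 ⟨x.2, funext fun i => by simpa [show ψ x = 1 from hx] using hψ x i⟩) σ
  exact ⟨g, g.2.1, hψ g⟩

/-- generators of the normal subgroup of order 64 -/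
def gensHex : List ℕ := [216227626219662118351051565874283587, 735260944179207422204995828047708258,
  220213109803259289183002082616117280, 216031257977568192633985706410183681,
  222808941315343168920901544778468353, 594058443642639447269110080197362755]

theorem gen_Hex : Gen pc (Cl gensHex) gensHex := gen_Cl (by decide +kernel)

theorem card_Hex : Nat.card (Cl gensHex) = 64 := card_of_bfs gen_Hex 70 (by decide +kernel)

theorem mem_Hex {g : P24} : g ∈ Cl gensHex ↔ g ∈ sexKer ∧ g * g = 1 := by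
  have h1 : (Cl gensHex : Set P24) ⊆ {g | g ∈ sexKer ∧ g * g = 1} := fun x hx => by
    refine ⟨Cl_le (fun c hc => ?_) hx, ?_⟩
    · obtain ⟨g, hg, rfl⟩ := in_M24 (by decide +kernel) c hc
      refine ⟨g, mem_sexKer.2 ⟨hg, fun t ht => ?_⟩, rfl⟩
      obtain ⟨i, hi, rfl⟩ := mem_fd.1 ht
      rw [← mk_inj, ← act_pc, mk_um_get]
      generalize pc g = c at hc
      revert c i; decide +kernel
    · have := forall_mem_of_bfs gen_Hex 70 (fun c => Nat.xor (mul c c) one) (by decide +kernel) x hx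
      rw [mul_pc, xor_eq_zero_iff', ← pc_one, pc_inj] at this; exact this
  have h2 := ncard_filter_of_bfs gen_sexKer 200 (fun g => g * g = 1)
    (fun c => Nat.xor (mul c c) one) (fun g _ => by rw [mul_pc, xor_eq_zero_iff', ← pc_one, pc_inj])
    (N := 64) (by decide +kernel)
  exact Set.ext_iff.1 (Set.eq_of_subset_of_ncard_le h1
    (by rw [h2, ← Nat.card_coe_set_eq]; exact card_Hex.ge) (Set.toFinite _)) g

end Cfsg.Agent.Golay
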