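import Mathlib
import Cfsg.Agent.Golay.H23

/-!
A factor set on the Golay code, and the extension of `M₂₃` defined by it.
-/

set_option autoImplicit false

namespace Cfsg.Agent.Golay.Pk

open Finset
open scoped Pointwise symmDiff

/-- the systematic basis of the code -/
noncomputable abbrev bs (j : ℕ) : Finset GolayPt := um (get 24 TA j)

theorem get_mk (y : Finset GolayPt) {j : ℕ} (hj : j < 24) : ((get 1 (mk y) j : ℕ) : ZMod 2) = ind y (pt j) := by
  rw [get_one, ← enc_pt hj, testBit_mk, enc_pt hj, ind]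
  split_ifs <;> simp_all

theorem add_expand {F : Finset GolayPt → ZMod 2} (hF : ∀ x ∈ CW, ∀ y ∈ CW, F (x ∆ y) = F x + F y)
    {y : Finset GolayPt} (hy : y ∈ CW) : F y = ∑ j ∈ range 12, ind y (pt j) * F (bs j) := by
  have h0 : F ∅ = 0 := by
    have := hF _ CW_empty _ CW_empty
    rwa [symmDiff_self, CharTwo.add_self_eq_zero] at this
  have h1 : ∀ k, ∀ n ≤ 12, F (um (xorComb (get 24 TA) n k)) = ∑ j ∈ range n, (get 1 k j : ℕ) * F (bs j) := by
    intro k n hn
    induction n with
    | zero => exact (congrArg F um_zero).trans h0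
    | succ n ih =>
      have h2 := um_xorComb_mem (fun j (hj : j < n) => um_TA_mem j (by omega)) k
      have h3 : xorComb (get 24 TA) (n + 1) k = (get 24 TA n * ((k >>> n) &&& 1)) ^^^ xorComb (get 24 TA) n k := rfl
      rw [h3, show (k >>> n) &&& 1 = get 1 k n by simp [get_eq, Nat.shiftRight_eq_div_pow], sum_range_succ,
        ← ih (by omega), um_xor, add_comm, get_one]
      split_ifs
      · rw [mul_one, hF _ (um_TA_mem n hn) _ h2, Nat.cast_one, one_mul]
      · rw [mul_zero, um_zero, hF _ CW_empty _ h2, h0, Nat.cast_zero, zero_mul]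
  rw [eq_um_of_mk_eq (eq_cw_of_syn (syn_of_mem hy)), cw, h1 _ _ le_rfl, ← cw, ← eq_cw_of_syn (syn_of_mem hy), um_mk]
  refine sum_congr rfl fun j hj => ?_
  rw [← get_mk y ((mem_range.1 hj).trans (by norm_num)), get_one, get_one, show 4096 = 2 ^ 12 from rfl,
    Nat.testBit_mod_two_pow, decide_eq_true (mem_range.1 hj), Bool.true_and]

/-- the factor set on masks -/
noncomputable def thC (x y : ℕ) : ℕ :=
  sumTo (fun j => Nat.mul (get 1 y j) (Nat.add (Nat.div (pop 24 (Nat.land x (get 24 TA j))) 2)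
    (pop 24 (Nat.land x (get 24 0x80000008000004000001000000000010000002000000000000000000000000000000 j))))) 12

/-- the factor set -/
noncomputable def th (x y : Finset GolayPt) : ZMod 2 := (thC (mk x) (mk y) : ℕ)

theorem th_eq (x y : Finset GolayPt) : th x y = ∑ j ∈ range 12, ind y (pt j) * ((((x ∩ bs j).card / 2 : ℕ) : ZMod 2) +
    ip x (um (get 24 0x80000008000004000001000000000010000002000000000000000000000000000000 j))) := by
  rw [th, thC, sumTo_eq, Nat.cast_sum]
  refine sum_congr rfl fun j hj => ?_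
  rw [← get_mk y ((mem_range.1 hj).trans (by norm_num)), ip, ← pop_mk, ← pop_mk, mk_inter, mk_inter, mk_um_get,
    mk_um_get, ← Nat.cast_add, ← Nat.cast_mul]
  rfl

theorem th_right (x y z : Finset GolayPt) : th x (y ∆ z) = th x y + th x z := by
  simp only [th_eq, ind_symmDiff, Pi.add_apply, add_mul, sum_add_distrib]

theorem th_left {x x' y : Finset GolayPt} (hx : x ∈ CW) (hx' : x' ∈ CW) (hy : y ∈ CW) :
    th (x ∆ x') y = th x y + th x' y + ip (x ∩ x') y := by
  rw [add_expand (F := ip (x ∩ x')) (fun a _ b _ => ip_symmDiff' _ _ _) hy]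
  simp only [th_eq, ← sum_add_distrib, ← mul_add, ip_symmDiff]
  refine sum_congr rfl fun j hj => congrArg _ ?_
  have h1 := even_inter_CW hx (um_TA_mem j (mem_range.1 hj))
  have h2 := even_inter_CW hx' (um_TA_mem j (mem_range.1 hj))
  have h3 := card_symmDiff_add (x ∩ bs j) (x' ∩ bs j)
  rw [show (x ∩ bs j) ∆ (x' ∩ bs j) = x ∆ x' ∩ bs j from (inf_symmDiff_distrib_right _ _ _).symm,
    ← inter_inter_distrib_right] at h3
  have h4 : ((x ∆ x' ∩ bs j).card / 2 : ℕ) + (x ∩ x' ∩ bs j).card = (x ∩ bs j).card / 2 + (x' ∩ bs j).card / 2 := by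
    unfold bs at *
    omega
  replace h4 := congrArg (Nat.cast : ℕ → ZMod 2) h4
  rw [Nat.cast_add, Nat.cast_add] at h4
  rw [show ip (x ∩ x') (bs j) = ((x ∩ x' ∩ bs j).card : ℕ) from rfl]
  linear_combination h4 - CharTwo.add_self_eq_zero (((x ∩ x' ∩ bs j).card : ℕ) : ZMod 2)

theorem th_self {x : Finset GolayPt} (hx : x ∈ CW) : th x x = (x.card / 4 : ℕ) := by
  obtain ⟨k, hk, e⟩ := enum_CW.mem x hx
  have h := sumBig_eq_zero (show sumBig (fun k => force (cw k) fun x =>
    Nat.mod (Nat.add (thC x x) (Nat.div (pop 24 x) 4)) 2) 4096 = 0 by decide +kernel) k hk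
  rw [force_eq, ← e, pop_mk] at h
  rw [th, ← CharTwo.add_eq_zero, ← Nat.cast_add, ZMod.natCast_eq_zero_iff]
  exact Nat.dvd_of_mod_eq_zero h

/-- the change of the factor set under a permutation -/
noncomputable def be (g : P24) (x y : Finset GolayPt) : ZMod 2 := th x y + th (g • x) (g • y)

theorem exists_quad {g : P24} (hg : g ∈ M24) :
    ∃ f : Finset GolayPt → ZMod 2, ∀ x ∈ CW, ∀ y ∈ CW, f (x ∆ y) = f x + f y + be g x y := by
  have h1 : ∀ x, ∀ y ∈ CW, ∀ z ∈ CW, be g x (y ∆ z) = be g x y + be g x z := fun x y _ z _ => by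
    simp only [be, smul_symmDiff', th_right]
    ring
  have h2 : ∀ z ∈ CW, ∀ x ∈ CW, ∀ y ∈ CW, be g (x ∆ y) z = be g x z + be g y z := fun z hz x hx y hy => by
    rw [be, smul_symmDiff', th_left hx hy hz, th_left (smul_mem_CW hg hx) (smul_mem_CW hg hy) (smul_mem_CW hg hz),
      ← smul_finset_inter, ip_smul, inv_smul_smul, be, be]
    linear_combination CharTwo.add_self_eq_zero (ip (x ∩ y) z)
  have h3 : ∀ x ∈ CW, be g x x = 0 := fun x hx => by
    rw [be, th_self hx, th_self (smul_mem_CW hg hx), card_smul_finset, CharTwo.add_self_eq_zero]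
  have h4 : ∀ x ∈ CW, ∀ y ∈ CW, be g x y = be g y x := fun x hx y hy => by
    have := h3 _ (CW_symmDiff hx hy)
    rwa [h1 _ _ hx _ hy, h2 _ hx _ hx _ hy, h2 _ hy _ hx _ hy, h3 _ hx, h3 _ hy, zero_add, add_zero,
      CharTwo.add_eq_zero, eq_comm] at this
  let γ : Finset GolayPt → Finset GolayPt → ZMod 2 := fun x y => ∑ i ∈ range 12, ∑ j ∈ range 12,
    ind x (pt i) * ind y (pt j) * if i < j then be g (bs i) (bs j) else 0
  refine ⟨fun x => γ x x, fun x hx y hy => ?_⟩
  have h5 : be g x y = γ x y + γ y x := by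
    rw [add_expand (F := fun x => be g x y) (h2 y hy) hx]
    simp only [γ]
    rw [sum_comm (f := fun i j => ind y (pt i) * _ * _), ← sum_add_distrib]
    refine sum_congr rfl fun i hi => ?_
    rw [add_expand (h1 _) hy, mul_sum, ← sum_add_distrib]
    refine sum_congr rfl fun j hj => ?_
    rcases lt_trichotomy i j with h | rfl | h
    · simp [h, h.not_gt, mul_assoc]
    · simp [h3 _ (um_TA_mem i (mem_range.1 hi))]
    · rw [if_neg h.not_gt, if_pos h, h4 _ (um_TA_mem i (mem_range.1 hi)) _ (um_TA_mem j (mem_range.1 hj))]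
      ring
  simp only [h5, γ, ind_symmDiff, Pi.add_apply, add_mul, mul_add, sum_add_distrib]
  ring

/-- code words that vanish at infinity -/
def VV (x : Finset GolayPt) : Prop := x ∈ CW ∧ none ∉ x

theorem VV.add {x y : Finset GolayPt} (hx : VV x) (hy : VV y) : VV (x ∆ y) :=
  ⟨CW_symmDiff hx.1 hy.1, by simp [mem_symmDiff, hx.2, hy.2]⟩

theorem VV_smul {g : P24} (hg : g ∈ Spor.M23) {x : Finset GolayPt} : VV (g • x) ↔ VV x := by
  rw [VV, smul_mem_CW_iff hg.1, ← (hg.2 : g • none = none), smul_mem_smul_finset_iff, VV]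

/-- an element of `M₂₃` with a function on the code words -/
@[ext] structure El where
  g : Spor.M23
  f : Finset GolayPt → ZMod 2
  h0 : ∀ x, ¬VV x → f x = 0
  h1 : ∀ x y, VV x → VV y → f (x ∆ y) = f x + f y + be g x y

noncomputable instance instGroupEl : Group El :=
  @Group.ofLeftAxioms El
    ⟨fun a b => ⟨a.g * b.g, fun x => a.f (b.g.1 • x) + b.f x,
      fun x hx => by rw [a.h0 _ (mt (VV_smul b.g.2).1 hx), b.h0 _ hx, add_zero], fun x y hx hy => by
        rw [smul_symmDiff', a.h1 _ _ ((VV_smul b.g.2).2 hx) ((VV_smul b.g.2).2 hy), b.h1 _ _ hx hy, be, be, be,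
          Subgroup.coe_mul, mul_smul, mul_smul]
        linear_combination CharTwo.add_self_eq_zero (th (b.g.1 • x) (b.g.1 • y))⟩⟩
    ⟨fun a => ⟨a.g⁻¹, fun x => a.f (a.g⁻¹.1 • x), fun x hx => a.h0 _ (mt (VV_smul a.g⁻¹.2).1 hx), fun x y hx hy => by
        rw [smul_symmDiff', a.h1 _ _ ((VV_smul a.g⁻¹.2).2 hx) ((VV_smul a.g⁻¹.2).2 hy), be, be, Subgroup.coe_inv,
          smul_inv_smul, smul_inv_smul, add_comm (th x y)]⟩⟩
    ⟨⟨1, 0, fun _ _ => rfl, fun x y _ _ => by simp [be, CharTwo.add_self_eq_zero]⟩⟩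
    (fun a b c => El.ext (mul_assoc _ _ _) (funext fun x => by
      change a.f (b.g.1 • c.g.1 • x) + b.f _ + c.f x = a.f ((b.g.1 * c.g.1) • x) + (b.f _ + c.f x)
      rw [mul_smul, add_assoc]))
    (fun a => El.ext (one_mul _) (funext fun x => zero_add _))
    (fun a => El.ext (inv_mul_cancel _) (funext fun x => by
      change a.f (a.g.1⁻¹ • a.g.1 • x) + a.f x = 0
      rw [inv_smul_smul, CharTwo.add_self_eq_zero]))

theorem mul_f (a b : El) (x : Finset GolayPt) : (a * b).f x = a.f (b.g.1 • x) + b.f x := rfl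

instance instFiniteEl : Finite El :=
  Finite.of_injective (fun a : El => (a.g, a.f)) fun _ _ h => El.ext (congrArg Prod.fst h) (congrArg Prod.snd h)

/-- the projection -/
noncomputable def pr : El →* Spor.M23 := MonoidHom.mk' El.g fun _ _ => rfl

open Classical in
theorem pr_surj : Function.Surjective pr := fun g => by
  obtain ⟨f, hf⟩ := exists_quad g.2.1
  exact ⟨⟨g, fun x => if VV x then f x else 0, fun x hx => if_neg hx, fun x y hx hy => by
    rw [if_pos hx, if_pos hy, if_pos (hx.add hy), hf _ hx.1 _ hy.1]⟩, rfl⟩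

open Classical in
/-- the element given by a functional -/
noncomputable def kf (w : GolayPt → ZMod 2) : El :=
  ⟨1, fun x => if VV x then ∑ i, w i * ind x i else 0, fun x hx => if_neg hx, fun x y hx hy => by
    simp [hx, hy, hx.add hy, ind_symmDiff, mul_add, sum_add_distrib, be, CharTwo.add_self_eq_zero]⟩

theorem kf_g (w : GolayPt → ZMod 2) : (kf w).g = 1 := rfl

open Classical in
theorem kf_f (w : GolayPt → ZMod 2) (x : Finset GolayPt) : (kf w).f x = if VV x then ∑ i, w i * ind x i else 0 := rfl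

theorem kf_add (v w : GolayPt → ZMod 2) : kf (v + w) = kf v * kf w := El.ext (mul_one _).symm (funext fun x => by
  rw [mul_f, kf_g, OneMemClass.coe_one, one_smul, kf_f, kf_f, kf_f]
  split_ifs <;> simp [add_mul, sum_add_distrib])

/-- the kernel -/
noncomputable def ke : (GolayPt → ZMod 2) →+ Additive pr.ker :=
  AddMonoidHom.mk' (fun w => Additive.ofMul ⟨kf w, rfl⟩) fun v w => Subtype.ext (kf_add v w)

theorem ke_surj : Function.Surjective ke := fun a => by
  have h1 : ∀ x y, VV x → VV y → a.toMul.1.f (x ∆ y) = a.toMul.1.f x + a.toMul.1.f y := fun x y hx hy => by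
    rw [a.toMul.1.h1 _ _ hx hy, show a.toMul.1.g = 1 from a.toMul.2]
    simp [be, CharTwo.add_self_eq_zero]
  have h2 : ∀ x ∈ CW, VV (if none ∈ x then xᶜ else x) := fun x hx => by
    split_ifs with h
    exacts [⟨CW_compl hx, by simpa using h⟩, ⟨hx, h⟩]
  let F : Finset GolayPt → ZMod 2 := fun x => a.toMul.1.f (if none ∈ x then xᶜ else x)
  have h3 : ∀ x ∈ CW, ∀ y ∈ CW, F (x ∆ y) = F x + F y := fun x hx y hy => by
    rw [← h1 _ _ (h2 x hx) (h2 y hy)]
    refine congrArg a.toMul.1.f ?_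
    by_cases h4 : none ∈ x <;> by_cases h5 : none ∈ y <;> simp only [mem_symmDiff, h4, h5] <;> ext i <;>
      simp [mem_symmDiff] <;> tauto
  refine ⟨∑ j ∈ range 12, Pi.single (pt j) (F (bs j)), Subtype.ext (El.ext a.toMul.2.symm (funext fun x => ?_))⟩
  change (kf _).f x = a.toMul.1.f x
  rw [kf_f]
  split_ifs with hx
  · rw [show a.toMul.1.f x = F x by simp only [F, if_neg hx.2], add_expand h3 hx.1]
    simp only [Finset.sum_apply, sum_mul]
    rw [sum_comm]
    exact sum_congr rfl fun j _ => by simp [Pi.single_apply, mul_comm]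
  · exact (a.toMul.1.h0 x hx).symm

theorem VV_um {m : ℕ} (h : m < 2 ^ 23 ∧ syn m = 0) : VV (um m) :=
  ⟨(um_mem_CW_iff (h.1.trans (by norm_num))).2 h.2, by
    rw [mem_um, Bool.not_eq_true]; exact Nat.testBit_lt_two_pow h.1⟩

theorem ke_eq_zero (w : GolayPt → ZMod 2) : ke w = 0 ↔ w ∈ golayCode ∨ w + Pi.single none 1 ∈ golayCode := by
  have h1 : ∀ s, ind s ∈ golayCode → ∀ x, VV x → ∑ i, ind s i * ind x i = 0 := fun s hs x hx => by
    rw [dot_ind, ZMod.natCast_eq_zero_iff]
    exact Nat.dvd_of_mod_eq_zero (even_inter_CW ((mem_CW_iff s).2 hs) hx.1)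
  rw [← ind_support₂ w]
  constructor
  · refine fun h => (H23.UB_iff _).1 fun u hu => ?_
    have h2 := kf_f (ind (support₂ w)) (um u)
    rw [show kf _ = 1 from congrArg (fun x : Additive pr.ker => x.toMul.1) h, if_pos (VV_um ((show ∀ u ∈ H23.UB, u < 2 ^ 23 ∧ syn u = 0 by decide +kernel) u hu)), dot_ind] at h2
    exact (ip_comm _ _).trans h2.symm
  · refine fun h => Subtype.ext (El.ext rfl (funext fun x => (kf_f _ x).trans ?_))
    change _ = (0 : ZMod 2)
    split_ifs with hx
    · refine h.elim (h1 _ · x hx) fun h => ?_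
      have h2 := h1 (support₂ (ind (support₂ w) + Pi.single none 1)) (by rwa [ind_support₂]) x hx
      simpa [ind_support₂, add_mul, sum_add_distrib, Pi.single_apply, show ind x none = 0 from if_neg hx.2] using h2
    · rfl

theorem kf_conj (g : El) (w : GolayPt → ZMod 2) : kf (w ∘ ⇑(g.g.1⁻¹)) = g * kf w * g⁻¹ := by
  refine El.ext (by change (1 : Spor.M23) = g.g * 1 * g.g⁻¹; group) (funext fun x => ?_)
  rw [mul_f, mul_f, kf_g, OneMemClass.coe_one, one_smul, show g⁻¹.f x = g.f (g⁻¹.g.1 • x) from rfl, add_right_comm,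
    CharTwo.add_self_eq_zero, zero_add, kf_f, kf_f, VV_smul g⁻¹.g.2, ind_smul, ← Equiv.sum_comp g.g.1,
    show g⁻¹.g.1 = g.g.1⁻¹ from rfl]
  simp [Equiv.Perm.inv_def]

theorem El.quad (a : El) {c p q : ℕ} (hc : pc a.g = c) (hp : p < 2 ^ 23 ∧ syn p = 0) (hq : q < 2 ^ 23 ∧ syn q = 0)
    (h : a.f (um p) = a.f (um q)) : a.f (um (p ^^^ q)) = (thC p q + thC (act (mat c) p) (act (mat c) q) : ℕ) := by
  rw [um_xor, a.h1 _ _ (VV_um hp) (VV_um hq), h, CharTwo.add_self_eq_zero, zero_add, be, th, th, ← act_pc, ← act_pc,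
    hc, mk_um (hp.1.trans (by norm_num)), mk_um (hq.1.trans (by norm_num)), Nat.cast_add]

theorem nonsplit (H : Subgroup El) (h1 : H ⊓ pr.ker = ⊥) : H ⊔ pr.ker ≠ ⊤ := fun h2 => by
  have h3 : ∀ g : Spor.M23, ∃ a ∈ H, a.g = g := fun g => by
    have : H.map pr = ⊤ := by
      rw [← sup_bot_eq (H.map pr), ← (Subgroup.map_eq_bot_iff pr.ker).2 le_rfl, ← Subgroup.map_sup, h2,
        Subgroup.map_top_of_surjective _ pr_surj]
    exact this.ge trivial
  have h4 : ∀ a ∈ H, ∀ b ∈ H, pc a.g = pc b.g → a = b := fun a ha b hb h => inv_mul_eq_one.1 (h1.le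
    ⟨H.mul_mem (H.inv_mem ha) hb, show a.g⁻¹ * b.g = 1 from inv_mul_eq_one.2 (Subtype.ext (pc_injective h))⟩)
  have h5 : In pc Spor.M23 [963361715657078528974539697459104928, 961397911944686811878950870355842144] :=
    (fixTest_pt (k := 23) (by norm_num)).in_St (by decide +kernel)
  obtain ⟨g, hg, e⟩ := h5 _ List.mem_cons_self
  obtain ⟨g', hg', e'⟩ := h5 _ (List.mem_cons_of_mem _ List.mem_cons_self)
  obtain ⟨a, ha, rfl : a.g.1 = g⟩ := (h3 ⟨g, hg⟩).imp fun a h => And.intro h.1 (congrArg Subtype.val h.2)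
  obtain ⟨b, hb, rfl : b.g.1 = g'⟩ := (h3 ⟨g', hg'⟩).imp fun a h => And.intro h.1 (congrArg Subtype.val h.2)
  have h6 : ∀ (x : El) (m m' : ℕ), m < 2 ^ 24 → act (mat (pc x.g)) m = m' → x.g.1 • um m = um m' :=
    fun x m m' h h' => eq_um_of_mk_eq (by rw [← act_pc, mk_um h, h'])
  have h7 := congrArg (El.f · (um 5652556)) (h4 _ (H.mul_mem (H.mul_mem ha hb) ha) _ hb (by
    change pc (a.g.1 * b.g.1 * a.g.1) = _
    rw [← mul_pc, ← mul_pc, e, e']
    decide +kernel))
  have h8 := congrArg (El.f · (um 1065303)) (h4 _ (H.mul_mem (H.mul_mem hb ha) hb) _ ha (by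
    change pc (b.g.1 * a.g.1 * b.g.1) = _
    rw [← mul_pc, ← mul_pc, e, e']
    decide +kernel))
  simp only [mul_f] at h7 h8
  rw [h6 a _ 5652556 (by norm_num) (by rw [e]; decide +kernel),
    h6 b _ 2245426 (by norm_num) (by rw [e']; decide +kernel)] at h7
  rw [h6 b _ 6570537 (by norm_num) (by rw [e']; decide +kernel),
    h6 a _ 1065303 (by norm_num) (by rw [e]; decide +kernel)] at h8
  have h9 := a.quad e (p := 2245426) (q := 5652556) (by decide +kernel) (by decide +kernel)
    (by linear_combination h7 - CharTwo.add_self_eq_zero (a.f (um 5652556)))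
  have h10 := a.quad e (p := 6570537) (q := 1065303) (by decide +kernel) (by decide +kernel)
    (by linear_combination h8 - CharTwo.add_self_eq_zero (b.f (um 1065303)))
  exact absurd (h9.symm.trans ((congrArg (a.f <| um ·) (by decide +kernel)).trans h10)) (by decide +kernel)

end Cfsg.Agent.Golay.Pk
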